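import Cfsg.Agent.Lib.Classical.SL2OddSylow
import Cfsg.Agent.Lib.Classical.Dickson.MinimalSimple

/-!
# Two-dimensional projective special linear groups over fields of even order: elementary facts
-/

set_option autoImplicit false

namespace CfsgLib.PGroup.CAI

open Matrix Subgroup
open CfsgLib.Classical CfsgLib.Classical.Dickson

section

variable {F : Type*} [Field F] [Fintype F]

local notation "S2" => Matrix.SpecialLinearGroup (Fin 2) F
local notation "P2" => Matrix.ProjectiveSpecialLinearGroup (Fin 2) F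

theorem mk_bijective_even [CharP F 2] :
    Function.Bijective (QuotientGroup.mk' (Subgroup.center S2)) := by
  refine ⟨?_, QuotientGroup.mk'_surjective _⟩
  have h : (Fintype.card F - 1) % 2 = 1 := by
    have := FiniteField.even_card_iff_char_two.1 (ringChar.eq F 2)
    have := Fintype.one_lt_card (α := F)
    omega
  rw [← MonoidHom.ker_eq_bot_iff, QuotientGroup.ker_mk', ← Subgroup.card_eq_one, card_center_SL,
    Fintype.card_fin, card_units_eq rfl]
  exact Nat.coprime_two_left.2 (Nat.odd_iff.2 h)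

theorem psl_even_odd_cyclic [CharP F 2] (r : ℕ) [Fact r.Prime] (hr : r ≠ 2) (R : Sylow r P2) :
    IsCyclic (R : Subgroup P2) := by
  haveI : Fact (Nat.Prime 2) := ⟨Nat.prime_two⟩
  set f := QuotientGroup.mk' (Subgroup.center S2)
  have hf := mk_bijective_even (F := F)
  obtain ⟨R', hR'⟩ := (R.2.comap_of_injective f hf.1).exists_le_sylow
  haveI := sylow_odd_cyclic_SL_two 2 r hr hr R'
  haveI : IsCyclic ((R : Subgroup P2).comap f) := Subgroup.isCyclic_of_le hR'
  let φ : ((R : Subgroup P2).comap f) →* (R : Subgroup P2) :=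
    (f.comp ((R : Subgroup P2).comap f).subtype).codRestrict _ fun y => y.2
  refine isCyclic_of_surjective φ ?_
  rintro ⟨y, hy⟩
  obtain ⟨x, rfl⟩ := hf.2 y
  exact ⟨⟨x, hy⟩, rfl⟩

theorem sq_eq_one_of_commute_invol [CharP F 2] {v g : P2} (hv : orderOf v = 2) (h : g * v = v * g) :
    g * g = 1 := by
  set f := QuotientGroup.mk' (Subgroup.center S2)
  have hf := mk_bijective_even (F := F)
  have hvv : v * v = 1 := by
    have h1 := pow_orderOf_eq_one v
    rwa [hv, pow_two] at h1
  obtain ⟨u, rfl⟩ := hf.2 v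
  obtain ⟨w, rfl⟩ := hf.2 g
  rw [← map_mul, ← map_mul] at h
  have hwu : w * u = u * w := hf.1 h
  have hu2 : u * u = 1 := hf.1 (by rw [map_mul, map_one]; exact hvv)
  have hu1 : u ≠ 1 := fun e => by rw [e, map_one, orderOf_one] at hv; omega
  set U := (u : Matrix (Fin 2) (Fin 2) F) with hU
  have h2 : (2 : F) = 0 := CharTwo.two_eq_zero
  have hsq : ∀ a : F, a * a = 1 → a = 1 := fun a ha => by
    have : (a - 1) * (a - 1) = 0 := by linear_combination ha + (1 - a) * h2
    exact sub_eq_zero.1 (mul_self_eq_zero.1 this)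
  have e00 := congrFun (congrFun (congrArg Subtype.val hu2) 0) 0
  have e01 := congrFun (congrFun (congrArg Subtype.val hu2) 0) 1
  have e10 := congrFun (congrFun (congrArg Subtype.val hu2) 1) 0
  simp [Matrix.mul_apply, Fin.sum_univ_two] at e00 e01 e10
  rw [← hU] at e00 e01 e10
  have hns : ¬ (U 0 1 = 0 ∧ U 1 0 = 0 ∧ U 0 0 = U 1 1) := by
    rintro ⟨a, b, c⟩
    have h1 : U 0 0 = 1 := hsq _ (by
      rw [a] at e00
      linear_combination e00)
    refine hu1 (Subtype.ext (Matrix.ext fun i j => ?_))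
    fin_cases i <;> fin_cases j <;> simp [hU] at a b c h1 ⊢ <;> first | assumption | (rw [← c]; exact h1)
  have htr : U 0 0 + U 1 1 = 0 := by
    have hdet : U 0 0 * U 1 1 - U 0 1 * U 1 0 = 1 := by
      rw [← Matrix.det_fin_two]; exact u.2
    by_contra hne
    apply hns
    have a : U 0 1 = 0 := (mul_eq_zero.1 (show U 0 1 * (U 0 0 + U 1 1) = 0 by linear_combination e01)).resolve_right hne
    have b : U 1 0 = 0 := (mul_eq_zero.1 (show U 1 0 * (U 0 0 + U 1 1) = 0 by linear_combination e10)).resolve_right hne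
    rw [a] at e00 hdet
    have h1 : U 0 0 = 1 := hsq _ (by linear_combination e00)
    rw [h1] at hdet
    exact ⟨a, b, by rw [h1]; linear_combination -hdet⟩
  obtain ⟨a, b, hab⟩ := exists_comb_of_commute (x := U) (y := (w : Matrix (Fin 2) (Fin 2) F)) hns
    (congrArg Subtype.val hwu)
  have hW : (w : Matrix (Fin 2) (Fin 2) F) 0 0 + (w : Matrix (Fin 2) (Fin 2) F) 1 1 = 0 := by
    rw [hab]
    simp
    linear_combination a * h2 + b * htr
  have hdetw : (w : Matrix (Fin 2) (Fin 2) F) 0 0 * (w : Matrix (Fin 2) (Fin 2) F) 1 1 -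
      (w : Matrix (Fin 2) (Fin 2) F) 0 1 * (w : Matrix (Fin 2) (Fin 2) F) 1 0 = 1 := by
    rw [← Matrix.det_fin_two]; exact w.2
  rw [← map_mul, show w * w = 1 from ?_, map_one]
  refine Subtype.ext (Matrix.ext fun i j => ?_)
  fin_cases i <;> fin_cases j <;> simp [Matrix.mul_apply, Fin.sum_univ_two]
  · linear_combination (w : Matrix (Fin 2) (Fin 2) F) 0 0 * hW - hdetw - (1 : F) * h2
  · linear_combination (w : Matrix (Fin 2) (Fin 2) F) 0 1 * hW
  · linear_combination (w : Matrix (Fin 2) (Fin 2) F) 1 0 * hW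
  · linear_combination (w : Matrix (Fin 2) (Fin 2) F) 1 1 * hW - hdetw - (1 : F) * h2

theorem even_of_char_two [CharP F 2] : Fintype.card F % 2 = 0 :=
  FiniteField.even_card_iff_char_two.1 (ringChar.eq F 2)

theorem card_psl_even [CharP F 2] :
    Nat.card P2 = Fintype.card F * ((Fintype.card F - 1) * (Fintype.card F + 1)) := by
  have h := gcd_mul_card_PSL (F := F) rfl
  have := even_of_char_two (F := F)
  have := Fintype.one_lt_card (α := F)
  rwa [Nat.prime_two.coprime_iff_not_dvd.2 (show ¬ 2 ∣ Fintype.card F - 1 by omega), one_mul] at h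

theorem card_cent_invol_le [CharP F 2] {v : P2} (hv : orderOf v = 2) :
    Nat.card (centralizer ({v} : Set P2)) ≤ Fintype.card F := by
  haveI : Fact (Nat.Prime 2) := ⟨Nat.prime_two⟩
  have hp : IsPGroup 2 (centralizer ({v} : Set P2)) := fun g => ⟨1, Subtype.ext (by
    rw [pow_one, coe_pow, pow_two]
    exact sq_eq_one_of_commute_invol hv (mem_centralizer_singleton_iff.1 g.2))⟩
  obtain ⟨i, hi⟩ := IsPGroup.iff_card.1 hp
  have hd := (centralizer ({v} : Set P2)).card_subgroup_dvd_card
  rw [hi, card_psl_even] at hd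
  have := even_of_char_two (F := F)
  have := Fintype.one_lt_card (α := F)
  have hco : Nat.Coprime (2 ^ i) ((Fintype.card F - 1) * (Fintype.card F + 1)) := by
    refine Nat.Coprime.pow_left _ (Nat.Coprime.mul_right ?_ ?_) <;>
      exact Nat.prime_two.coprime_iff_not_dvd.2 (by omega)
  rw [hi]
  exact Nat.le_of_dvd Fintype.card_pos (hco.dvd_of_dvd_mul_right hd)

theorem proper_card_le_even [CharP F 2] (h4 : 4 ≤ Fintype.card F) (J : Subgroup P2) (hJ : J ≠ ⊤) :
    Nat.card J ≤ Fintype.card F * (Fintype.card F - 1) := by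
  have hev := even_of_char_two (F := F)
  have h := proper_subgroup_bound (F := F) rfl (by
    simp only [Finset.mem_insert, Finset.mem_singleton]
    omega) J hJ
  rwa [Nat.prime_two.coprime_iff_not_dvd.2 (show ¬ 2 ∣ Fintype.card F - 1 by omega), one_mul] at h

end

end CfsgLib.PGroup.CAI
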