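import Cfsg.Agent.Lib.PGroup.CAI.Fix
import Cfsg.Agent.Lib.PGroup.CAI.PSLEven

/-!
# Abelian involution centralisers: centralisers of elements of odd order
-/

set_option autoImplicit false

namespace CfsgLib.PGroup.CAI

open Subgroup

universe u

/-- `G` is, modulo a centre of odd order, a two-dimensional linear group over a field of even order. -/
def SplitLinear (G : Type u) [Group G] : Prop :=
  ∃ (F : Type) (_ : Field F) (_ : Fintype F) (π : G →* Matrix.ProjectiveSpecialLinearGroup (Fin 2) F),
    CharP F 2 ∧ 4 ≤ Fintype.card F ∧ Function.Surjective π ∧ π.ker = center G ∧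
      Odd (Nat.card (center G))

/-- The induction hypothesis. -/
def SplitBelow (n : ℕ) : Prop :=
  ∀ (X : Type u) [Group X] [Finite X], Nat.card X < n → TwoGood X → CentAbelian X → SplitLinear X

variable {G : Type u} [Group G]

theorem CentAbelian.subgroup (hC : CentAbelian G) (L : Subgroup G) : CentAbelian L := fun t ht => by
  refine ⟨⟨fun a b => Subtype.ext (Subtype.ext ?_)⟩⟩
  have ht' : orderOf (t : G) = 2 := by rw [orderOf_coe, ht]
  exact comm_of_mem hC ht'
    (mem_centralizer_singleton_iff.2 (congrArg Subtype.val (mem_centralizer_singleton_iff.1 a.2)))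
    (mem_centralizer_singleton_iff.2 (congrArg Subtype.val (mem_centralizer_singleton_iff.1 b.2)))

variable [Finite G]

theorem TwoGood.of_contains (hna : TwoGood G) (hC : CentAbelian G) {t : G} (ht : orderOf t = 2)
    (L : Subgroup G) (hAL : centralizer ({t} : Set G) ≤ L)
    (hL : ¬ L ≤ normalizer (centralizer ({t} : Set G) : Set G)) : TwoGood L := by
  haveI : Fact (Nat.Prime 2) := ⟨Nat.prime_two⟩
  obtain ⟨S, htS⟩ := exists_sylow_mem ht
  have hle : (S : Subgroup G) ≤ L := (sylow_le_cent hC S htS).trans hAL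
  have hTS : ((S.subtype hle : Sylow 2 L) : Subgroup L) = (S : Subgroup G).subgroupOf L :=
    S.coe_subtype hle
  refine ⟨fun T hT => hna.not_cyclic S ?_, fun T hT => hL fun x hx => ?_⟩
  · haveI := hT
    haveI : IsCyclic ((S.subtype hle : Sylow 2 L) : Subgroup L) :=
      isCyclic_of_surjective _ (T.equiv (S.subtype hle)).surjective
    exact isCyclic_of_surjective _ ((MulEquiv.subgroupCongr hTS).trans
      (subgroupOfEquivOfLe hle)).surjective
  · haveI := Sylow.unique_of_normal T hT
    have e : S.subtype hle = T := Subsingleton.elim _ _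
    rw [← e, hTS] at hT
    refine mem_normalizer_of_conj_mem hC.same ht (sylow_le_cent hC S htS ?_)
    exact mem_subgroupOf.1 (hT.conj_mem ⟨t, hle htS⟩ (mem_subgroupOf.2 htS) ⟨x, hx⟩)

/-- Data of a centraliser not contained in the normaliser. -/
theorem split_of_not_le (hna : TwoGood G) (hC : CentAbelian G) (IH : SplitBelow.{u} (Nat.card G))
    (hZ : center G = ⊥) {t k : G} (ht : orderOf t = 2) (hk : k ∈ centralizer ({t} : Set G)) (hk1 : k ≠ 1)
    (hL : ¬ centralizer ({k} : Set G) ≤ normalizer (centralizer ({t} : Set G) : Set G)) :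
    TwoGood (centralizer ({k} : Set G)) ∧ SplitLinear (centralizer ({k} : Set G)) ∧
      centralizer ({t} : Set G) ≤ centralizer ({k} : Set G) := by
  have hAL : centralizer ({t} : Set G) ≤ centralizer ({k} : Set G) := fun w hw =>
    mem_centralizer_singleton_iff.2 (comm_of_mem hC ht hw hk)
  have hgood := hna.of_contains hC ht _ hAL hL
  refine ⟨hgood, IH _ (lt_of_le_of_ne (card_le_card_group _) fun e => hk1 ?_) hgood (hC.subgroup _), hAL⟩
  rw [← mem_bot, ← hZ, mem_center_iff]
  intro g
  have hg : g ∈ centralizer ({k} : Set G) := by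
    rw [(card_eq_iff_eq_top _).1 e]; exact mem_top g
  exact mem_centralizer_singleton_iff.1 hg

theorem pi_invol {L P : Type*} [Group L] [Group P] {π : L →* P} (hker : π.ker = center L)
    (hodd : Odd (Nat.card (center L))) {u : L} (hu : orderOf u = 2) : orderOf (π u) = 2 := by
  haveI : Fact (Nat.Prime 2) := ⟨Nat.prime_two⟩
  refine orderOf_eq_prime (by rw [← map_pow, ← hu, pow_orderOf_eq_one, map_one]) fun e => ?_
  have h1 : u ∈ center L := hker ▸ MonoidHom.mem_ker.2 e
  have h2 := orderOf_dvd_natCard (⟨u, h1⟩ : center L)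
  rw [← orderOf_coe, hu] at h2
  rw [Nat.odd_iff] at hodd
  omega

theorem pi_eq_one_of_commute {L : Type*} [Group L] {F : Type} [Field F] [Fintype F] [CharP F 2]
    {π : L →* Matrix.ProjectiveSpecialLinearGroup (Fin 2) F} (hker : π.ker = center L)
    (hodd : Odd (Nat.card (center L))) {u a : L} (hu : orderOf u = 2) (ha : Odd (orderOf a))
    (h : a * u = u * a) : a ∈ center L := by
  have h1 := sq_eq_one_of_commute_invol (pi_invol hker hodd hu) (g := π a)
    (by rw [← map_mul, ← map_mul, h])
  rw [← hker, MonoidHom.mem_ker, ← orderOf_eq_one_iff]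
  exact Nat.eq_one_of_dvd_coprimes (Nat.coprime_two_left.2 ha)
    (orderOf_dvd_of_pow_eq_one (by rw [pow_two]; exact h1)) (orderOf_map_dvd π a)

theorem centClosed (hna : TwoGood G) (hC : CentAbelian G) (IH : SplitBelow.{u} (Nat.card G))
    (hZ : center G = ⊥) : CentClosed G := by
  classical
  intro t ht k hk hk1
  by_contra hL
  -- `k` has odd order
  have hodd : Odd (orderOf k) := by
    by_contra hev
    rw [Nat.not_odd_iff_even, even_iff_two_dvd] at hev
    have hw : orderOf (k ^ (orderOf k / 2)) = 2 := by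
      rw [orderOf_pow_orderOf_div (orderOf_pos k).ne' hev]
    refine hL fun x hx => le_normalizer ?_
    rw [← cent_eq_of_comm hC.same hw ht
      (mem_centralizer_singleton_iff.1 (pow_mem hk _)).symm, mem_centralizer_singleton_iff]
    exact ((show Commute x k from mem_centralizer_singleton_iff.1 hx).pow_right _).eq
  have hs := split_of_not_le hna hC IH hZ ht hk hk1 hL
  set L := centralizer ({k} : Set G) with hLdef
  clear_value L
  obtain ⟨hgood, ⟨F, iF, iF', π, hchar, h4, hsurj, hker, hZodd⟩, hAL⟩ := hs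
  haveI := hchar
  have htA : t ∈ centralizer ({t} : Set G) := mem_centralizer_singleton_iff.2 rfl
  set t' : L := ⟨t, hAL htA⟩ with ht'
  have ht'o : orderOf t' = 2 := by rw [← orderOf_coe, ← ht]
  have hCL := hC.subgroup L
  -- involutions of `L` are conjugate in `L`
  have hconj : ∀ v ∈ L, orderOf v = 2 → ∃ g ∈ L, g * t * g⁻¹ = v := by
    intro v hv hv2
    obtain ⟨g, hg⟩ := isConj_iff.1 (isConj_invol (hgood.spread hCL) hCL.same ht'o
      (y := ⟨v, hv⟩) (by rw [← orderOf_coe, ← hv2]))
    exact ⟨g, g.2, congrArg Subtype.val hg⟩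
  -- the normaliser of `L` is `L`
  have hnorm : ∀ h : G, h * t * h⁻¹ ∈ L → h ∈ L := by
    intro h hh
    obtain ⟨g, hg, e⟩ := hconj _ hh ((CfsgLib.Invol.orderOf_conj_eq h t).trans ht)
    have h1 : g⁻¹ * h ∈ centralizer ({t} : Set G) := by
      rw [mem_centralizer_singleton_iff]
      calc g⁻¹ * h * t = g⁻¹ * (h * t * h⁻¹) * h := by group
        _ = g⁻¹ * (g * t * g⁻¹) * h := by rw [e]
        _ = _ := by group
    have := L.mul_mem hg (hAL h1)
    rwa [mul_inv_cancel_left] at this
  -- centralisers of the non-trivial central elements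
  have hcb : ∀ b : L, b ∈ center L → b ≠ 1 → centralizer ({(b : G)} : Set G) = L := by
    intro b hb hb1
    have hle : L ≤ centralizer ({(b : G)} : Set G) := fun x hx =>
      mem_centralizer_singleton_iff.2 (congrArg Subtype.val (mem_center_iff.1 hb ⟨x, hx⟩))
    have hbA : (b : G) ∈ centralizer ({t} : Set G) :=
      mem_centralizer_singleton_iff.2 (congrArg Subtype.val (mem_center_iff.1 hb t')).symm
    have hb1' : (b : G) ≠ 1 := fun e => hb1 (Subtype.ext e)
    obtain ⟨-, ⟨F', _, _, π', hchar', -, -, hker', hodd'⟩, hAb⟩ :=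
      split_of_not_le hna hC IH hZ ht hbA hb1' fun h => hL (hle.trans h)
    haveI := hchar'
    have hkb : k ∈ centralizer ({(b : G)} : Set G) := hAb hk
    have h1 := pi_eq_one_of_commute hker' hodd' (u := ⟨t, hAb htA⟩) (a := ⟨k, hkb⟩)
      (by rw [← orderOf_coe, ← ht]) (by rw [← orderOf_coe]; exact hodd)
      (Subtype.ext (mem_centralizer_singleton_iff.1 hk))
    refine le_antisymm (fun x hx => ?_) hle
    rw [hLdef]
    exact mem_centralizer_singleton_iff.2 (congrArg Subtype.val (mem_center_iff.1 h1 ⟨x, hx⟩))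
  -- counting the involutions
  haveI : Finite (G ⧸ L) := Quotient.finite _
  haveI := Fintype.ofFinite (G ⧸ L)
  set nL := Nat.card {v : G // orderOf v = 2 ∧ v ∈ L} with hnL
  have hnL2 : nL * Nat.card (centralizer ({t} : Set G)) = Nat.card L := by
    rw [← card_conj_mul (t := t) hAL]
    congr 1
    refine Nat.card_congr (Equiv.subtypeEquivRight fun v => ⟨fun hv => hconj v hv.2 hv.1, ?_⟩)
    rintro ⟨g, hg, rfl⟩
    exact ⟨(CfsgLib.Invol.orderOf_conj_eq g t).trans ht,
      L.mul_mem (L.mul_mem hg (hAL htA)) (L.inv_mem hg)⟩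
  have hn : Nat.card {v : G // orderOf v = 2} = Fintype.card (G ⧸ L) * nL := by
    refine Nat.eq_of_mul_eq_mul_right (Nat.card_pos (α := centralizer ({t} : Set G))) ?_
    rw [card_invol_mul (hna.spread hC) hC.same ht, mul_assoc, hnL2, ← Nat.card_eq_fintype_card, ← index_eq_card,
      index_mul_card]
  -- `L` contains many involutions
  have hq : Fintype.card F * (Fintype.card F - 1) < nL := by
    set A' := (centralizer ({t} : Set G)).subgroupOf L with hA'
    have hkerA : π.ker ≤ A' := fun z hz => by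
      rw [hker] at hz
      exact mem_subgroupOf.2 (mem_centralizer_singleton_iff.2
        (congrArg Subtype.val (mem_center_iff.1 hz t')).symm)
    have hAle : Nat.card (A'.map π) ≤ Fintype.card F := by
      refine le_trans (Nat.card_mono (Set.toFinite _) ?_) (card_cent_invol_le (pi_invol hker hZodd ht'o))
      rintro _ ⟨a, ha, rfl⟩
      refine mem_centralizer_singleton_iff.2 ?_
      rw [← map_mul, ← map_mul]
      exact congrArg π (Subtype.ext (mem_centralizer_singleton_iff.1 (mem_subgroupOf.1 ha)))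
    have hidx : A'.index = (A'.map π).index := (index_map_eq A' hsurj hkerA).symm
    have hA'c : A'.index * Nat.card (centralizer ({t} : Set G)) = Nat.card L := by
      rw [← A'.index_mul_card, Nat.card_congr (subgroupOfEquivOfLe hAL).toEquiv]
    have he : nL = (A'.map π).index :=
      (Nat.eq_of_mul_eq_mul_right Nat.card_pos (hnL2.trans hA'c.symm)).trans hidx
    have hP := (A'.map π).index_mul_card
    rw [card_psl_even, ← he] at hP
    by_contra hlt
    push Not at hlt
    have hpos : 0 < Fintype.card F * (Fintype.card F - 1) := Nat.mul_pos Fintype.card_pos (by omega)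
    have h5 := Nat.mul_le_mul hlt hAle
    rw [hP] at h5
    have h6 : Fintype.card F * (Fintype.card F - 1) * (Fintype.card F + 1) ≤
        Fintype.card F * (Fintype.card F - 1) * Fintype.card F := by
      calc _ = Fintype.card F * ((Fintype.card F - 1) * (Fintype.card F + 1)) := mul_assoc _ _ _
        _ ≤ _ := h5
    have := Nat.le_of_mul_le_mul_left h6 hpos
    omega
  -- a coset other than `L` with as many involutions
  obtain ⟨q, hq0, hqn⟩ : ∃ q : G ⧸ L, q ≠ ((1 : G) : G ⧸ L) ∧
      nL ≤ Nat.card {v : G // orderOf v = 2 ∧ (v : G ⧸ L) = q} := by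
    by_contra hall
    push Not at hall
    obtain ⟨x, hx⟩ : ∃ x : G, x ∉ L := by
      by_contra hh
      push Not at hh
      refine hk1 ?_
      rw [← mem_bot, ← hZ, mem_center_iff]
      exact fun g => mem_centralizer_singleton_iff.1 (hLdef ▸ hh g)
    have hlt : (∑ p : G ⧸ L, Nat.card {v : G // orderOf v = 2 ∧ (v : G ⧸ L) = p}) <
        ∑ _p : G ⧸ L, nL := by
      refine Finset.sum_lt_sum (fun p _ => ?_) ⟨(x : G ⧸ L), Finset.mem_univ _, hall _ fun e => hx ?_⟩
      · rcases eq_or_ne p ((1 : G) : G ⧸ L) with rfl | hp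
        · rw [card_base_fibre]
        · exact (hall p hp).le
      · rwa [eq_comm, QuotientGroup.eq, inv_one, one_mul] at e
    rw [sum_invol_cosets, hn, Finset.sum_const, Finset.card_univ, smul_eq_mul] at hlt
    exact lt_irrefl _ hlt
  obtain ⟨⟨u, hu, rfl⟩⟩ : Nonempty {v : G // orderOf v = 2 ∧ (v : G ⧸ L) = q} := by
    by_contra he
    rw [not_nonempty_iff] at he
    rw [Nat.card_of_isEmpty] at hqn
    omega
  have huL : u ∉ L := fun h => hq0 (by rwa [eq_comm, QuotientGroup.eq, inv_one, one_mul])
  have huu := sq_one_of_invol hu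
  have hu' : u⁻¹ = u := inv_eq_of_mul_eq_one_left huu
  -- the intersection with the conjugate
  set D : Subgroup L := (L.comap (MulAut.conj u).toMonoidHom).subgroupOf L with hD
  have hmemD : ∀ d : L, d ∈ D ↔ u * d * u⁻¹ ∈ L := fun d => Iff.rfl
  have hJ : D.map π ≠ ⊤ := by
    intro htop
    have h1 : π t' ∈ D.map π := htop ▸ mem_top _
    obtain ⟨d, hd, hdt⟩ := h1
    have hz : d⁻¹ * t' ∈ center L := by
      rw [← hker, MonoidHom.mem_ker, map_mul, map_inv, hdt, inv_mul_cancel]
    have hzd : Commute d (d⁻¹ * t') := mem_center_iff.1 hz d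
    have hpow := hzd.mul_pow (Nat.card (center L))
    rw [mul_inv_cancel_left, show (d⁻¹ * t') ^ Nat.card (center L) = 1 by
      exact congrArg Subtype.val (pow_card_eq_one' (x := (⟨_, hz⟩ : center L))), mul_one,
      pow_eq_pow_mod _ (show t' ^ 2 = 1 by rw [← ht'o, pow_orderOf_eq_one]), Nat.odd_iff.1 hZodd,
      pow_one] at hpow
    refine huL (hnorm u ((hmemD t').1 ?_))
    rw [hpow]
    exact D.pow_mem hd _
  let f : {v : G // orderOf v = 2 ∧ (v : G ⧸ L) = (u : G ⧸ L)} → D.map π := fun v =>
    ⟨π ⟨u * v.1, by have := QuotientGroup.eq.1 v.2.2.symm; rwa [hu'] at this⟩,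
      mem_map_of_mem π ((hmemD _).2 (by
        have h1 : u * v.1 ∈ L := by have := QuotientGroup.eq.1 v.2.2.symm; rwa [hu'] at this
        have h2 : u * (u * v.1) * u⁻¹ = (u * v.1)⁻¹ := by
          rw [← mul_assoc, huu, one_mul, _root_.mul_inv_rev,
            inv_eq_of_mul_eq_one_left (sq_one_of_invol v.2.1)]
        show u * (u * v.1) * u⁻¹ ∈ L
        rw [h2]
        exact L.inv_mem h1))⟩
  have hf : Function.Injective f := by
    intro v v' e
    set d : L := ⟨u * v.1, by have := QuotientGroup.eq.1 v.2.2.symm; rwa [hu'] at this⟩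
    set d' : L := ⟨u * v'.1, by have := QuotientGroup.eq.1 v'.2.2.symm; rwa [hu'] at this⟩
    have hb : d⁻¹ * d' ∈ center L := by
      rw [← hker, MonoidHom.mem_ker, map_mul, map_inv,
        show π d = π d' from congrArg (fun z : D.map π => (z : Matrix.ProjectiveSpecialLinearGroup (Fin 2) F)) e,
        inv_mul_cancel]
    by_contra hne
    have hb1 : d⁻¹ * d' ≠ 1 := fun h => hne (Subtype.ext
      (mul_left_cancel (congrArg Subtype.val (inv_mul_eq_one.1 h))))
    set b : G := ((d⁻¹ * d' : L) : G) with hbdef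
    have hbv : b = v.1 * v'.1 := by
      show (u * v.1)⁻¹ * (u * v'.1) = v.1 * v'.1
      rw [_root_.mul_inv_rev, inv_eq_of_mul_eq_one_left (sq_one_of_invol v.2.1)]
      group
    have hinv : u * b * u⁻¹ = b⁻¹ := by
      have hcm : (u * v.1) * b = b * (u * v.1) := congrArg Subtype.val (mem_center_iff.1 hb d)
      have hvb : v.1 * b * v.1⁻¹ = b⁻¹ := by
        rw [hbv, _root_.mul_inv_rev, inv_eq_of_mul_eq_one_left (sq_one_of_invol v.2.1),
          inv_eq_of_mul_eq_one_left (sq_one_of_invol v'.2.1), ← mul_assoc, sq_one_of_invol v.2.1, one_mul]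
      calc u * b * u⁻¹ = u * (b * (u * v.1)) * (u * v.1)⁻¹ * u⁻¹ := by group
        _ = u * ((u * v.1) * b) * (u * v.1)⁻¹ * u⁻¹ := by rw [hcm]
        _ = (u * u) * (v.1 * b * v.1⁻¹) * (u * u)⁻¹ := by group
        _ = b⁻¹ := by rw [huu, hvb]; group
    have hcL := hcb _ hb hb1
    rw [← hbdef] at hcL
    refine huL (hnorm u ?_)
    rw [← hcL, mem_centralizer_singleton_iff]
    have htb : t * b = b * t :=
      (congrArg Subtype.val (mem_center_iff.1 hb t'))
    have e1 : u * t * u⁻¹ * b⁻¹ = b⁻¹ * (u * t * u⁻¹) := by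
      calc u * t * u⁻¹ * b⁻¹ = u * t * u⁻¹ * (u * b * u⁻¹) := by rw [hinv]
        _ = u * (t * b) * u⁻¹ := by group
        _ = u * (b * t) * u⁻¹ := by rw [htb]
        _ = (u * b * u⁻¹) * (u * t * u⁻¹) := by group
        _ = _ := by rw [hinv]
    calc u * t * u⁻¹ * b = b * (b⁻¹ * (u * t * u⁻¹)) * b := by group
      _ = b * (u * t * u⁻¹ * b⁻¹) * b := by rw [e1]
      _ = _ := by group
  have h1 := Nat.card_le_card_of_injective f hf
  have h2 := proper_card_le_even h4 _ hJ
  omega

end CfsgLib.PGroup.CAI
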