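import Cfsg.Agent.Lib.PGroup.CAI.Local

/-!
# Abelian involution centralisers: the action on the cosets of `N(A)`
-/

set_option autoImplicit false

namespace CfsgLib.PGroup.CAI

open MulAction

variable {G : Type*} [Group G] [Finite G]

/-- The normaliser of the centraliser of `t`. -/
abbrev NA (t : G) : Subgroup G :=
  Subgroup.normalizer (Subgroup.centralizer ({t} : Set G) : Set G)

/-- The base point. -/
def base (t : G) : G ⧸ NA t := ((1 : G) : G ⧸ NA t)

omit [Finite G] in
theorem fix_iff {t g u : G} : u • (g : G ⧸ NA t) = (g : G ⧸ NA t) ↔ g⁻¹ * u * g ∈ NA t := by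
  rw [MulAction.Quotient.smul_coe, smul_eq_mul, eq_comm, QuotientGroup.eq, mul_assoc]

omit [Finite G] in
theorem fix_base {t u : G} : u • base t = base t ↔ u ∈ NA t := by
  rw [base, fix_iff, inv_one, one_mul, mul_one]

omit [Finite G] in
theorem coe_eq_base {t g : G} : (g : G ⧸ NA t) = base t ↔ g ∈ NA t := by
  rw [base, eq_comm, QuotientGroup.eq, inv_one, one_mul]

omit [Finite G] in
theorem invol_mul_self {v : G} (h : orderOf v = 2) : v * v = 1 := by
  rw [← pow_two, ← h, pow_orderOf_eq_one]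

/-- The involutions moving the base point to `p`. -/
abbrev Swaps (t : G) (p : G ⧸ NA t) : Type _ := {v : G // orderOf v = 2 ∧ v • base t = p}

theorem fix_of_mem_cent (hfix : FixesOne G) {t k : G} (ht : orderOf t = 2)
    (hk : k ∈ Subgroup.centralizer ({t} : Set G)) (hk1 : k ≠ 1) {q : G ⧸ NA t} (hq : k • q = q) :
    q = base t := by
  obtain ⟨g, rfl⟩ := QuotientGroup.mk_surjective q
  exact coe_eq_base.2 (hfix t ht k hk hk1 g (fix_iff.1 hq))

theorem odd_of_two_fix (hC : CentSame G) (hfix : FixesOne G) {t x : G} (ht : orderOf t = 2)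
    (hx : x ∈ NA t) {p : G ⧸ NA t} (hp : p ≠ base t) (hxp : x • p = p) : Odd (orderOf x) := by
  by_contra hev
  rw [Nat.not_odd_iff_even, even_iff_two_dvd] at hev
  have hw : orderOf (x ^ (orderOf x / 2)) = 2 := by
    rw [orderOf_pow_orderOf_div (orderOf_pos x).ne' hev]
  have hwp : ∀ n : ℕ, (x ^ n) • p = p := fun n => by
    induction n with
    | zero => rw [pow_zero, one_smul]
    | succ n ih => rw [pow_succ, mul_smul, hxp, ih]
  exact hp (fix_of_mem_cent hfix ht (invol_mem_cent hC ht hw ((NA t).pow_mem hx _))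
    (CfsgLib.Invol.ne_one_of_orderOf_two hw) (hwp _))

omit [Finite G] in
theorem smul_swap {t v : G} {p : G ⧸ NA t} (hv : orderOf v = 2) (h : v • base t = p) :
    v • p = base t := by
  rw [← h, smul_smul, ← pow_two, ← hv, pow_orderOf_eq_one, one_smul]

theorem swaps_inj (hC : CentSame G) (hfix : FixesOne G) {t : G} (ht : orderOf t = 2)
    {p : G ⧸ NA t} (hp : p ≠ base t) {v v' : G} (hv : orderOf v = 2) (hvp : v • base t = p)
    (hv' : orderOf v' = 2) (hk : v * v' ∈ Subgroup.centralizer ({t} : Set G)) : v = v' := by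
  by_contra hne
  have hv2 : v * v = 1 := by rw [← pow_two, ← hv, pow_orderOf_eq_one]
  have hv'2 : v' * v' = 1 := by rw [← pow_two, ← hv', pow_orderOf_eq_one]
  have hvi : v⁻¹ = v := inv_eq_of_mul_eq_one_left hv2
  have hv'i : v'⁻¹ = v' := inv_eq_of_mul_eq_one_left hv'2
  have hk' := inv_mem hk
  rw [mul_inv_rev, hvi, hv'i] at hk'
  have hne' : v' * v ≠ 1 := fun e => hne (by
    rw [← hvi, inv_eq_of_mul_eq_one_left e])
  have hM : v ∈ NA t := hfix t ht (v' * v) hk' hne' v (by
    rw [hvi, show v * (v' * v) * v = v * v' * (v * v) by group, hv2, mul_one]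
    exact Subgroup.le_normalizer hk)
  exact hp (hvp.symm.trans (fix_base.2 hM))

theorem card_swaps_le (hna : Spread G) (hC : CentSame G) (hfix : FixesOne G) {t : G}
    (ht : orderOf t = 2) {p : G ⧸ NA t} (hp : p ≠ base t) :
    Nat.card (Swaps t p) ≤ Nat.card {v : G // orderOf v = 2 ∧ v ∈ Subgroup.centralizer ({t} : Set G)} := by
  rcases isEmpty_or_nonempty (Swaps t p) with h | ⟨⟨v₀, hv₀, hv₀p⟩⟩
  · rw [Nat.card_of_isEmpty]; exact Nat.zero_le _
  have hM : ∀ v : Swaps t p, v₀ * (v : G) ∈ NA t := fun v => fix_base.1 (by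
    rw [mul_smul, v.2.2, smul_swap hv₀ hv₀p])
  let f : Swaps t p → {v : G // orderOf v = 2 ∧ v ∈ Subgroup.centralizer ({t} : Set G)} := fun v =>
    ⟨v₀ * v * t * (v₀ * v)⁻¹, (CfsgLib.Invol.orderOf_conj_eq _ t).trans ht,
      (Subgroup.mem_normalizer_iff.1 (hM v) t).1 (Subgroup.mem_centralizer_singleton_iff.2 rfl)⟩
  refine Nat.card_le_card_of_injective f fun v w e => ?_
  have e' : v₀ * (v : G) * t * (v₀ * v)⁻¹ = v₀ * (w : G) * t * (v₀ * w)⁻¹ := congrArg Subtype.val e
  refine Subtype.ext (swaps_inj hC hfix ht hp v.2.1 v.2.2 w.2.1 ?_)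
  have hvi : (v : G)⁻¹ = v := inv_eq_of_mul_eq_one_left (invol_mul_self v.2.1)
  rw [← hvi, Subgroup.mem_centralizer_singleton_iff]
  calc (v : G)⁻¹ * w * t = (v₀ * v)⁻¹ * (v₀ * w * t * (v₀ * w)⁻¹) * (v₀ * w) := by group
    _ = (v₀ * v)⁻¹ * (v₀ * v * t * (v₀ * v)⁻¹) * (v₀ * w) := by rw [e']
    _ = _ := by group

theorem card_invol_eq (hna : Spread G) (hC : CentSame G) {t : G} (ht : orderOf t = 2) :
    Nat.card {v : G // orderOf v = 2} =
      (NA t).index * Nat.card {v : G // orderOf v = 2 ∧ v ∈ Subgroup.centralizer ({t} : Set G)} := by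
  refine Nat.eq_of_mul_eq_mul_right (Nat.card_pos (α := Subgroup.centralizer ({t} : Set G))) ?_
  rw [card_invol_mul hna hC ht, mul_assoc, card_normalizer hna hC ht, Subgroup.index_mul_card]

theorem card_swaps (hna : Spread G) (hC : CentSame G) (hfix : FixesOne G) {t : G}
    (ht : orderOf t = 2) {p : G ⧸ NA t} (hp : p ≠ base t) :
    Nat.card (Swaps t p) = Nat.card {v : G // orderOf v = 2 ∧ v ∈ Subgroup.centralizer ({t} : Set G)} := by
  classical
  set e := Nat.card {v : G // orderOf v = 2 ∧ v ∈ Subgroup.centralizer ({t} : Set G)} with he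
  haveI : Finite (G ⧸ NA t) := Quotient.finite _
  haveI := Fintype.ofFinite (G ⧸ NA t)
  have htot : ∑ q : G ⧸ NA t, Nat.card (Swaps t q) = ∑ _q : G ⧸ NA t, e := by
    rw [Finset.sum_const, Finset.card_univ, smul_eq_mul, ← Nat.card_eq_fintype_card,
      ← Subgroup.index_eq_card, ← card_invol_eq hna hC ht, ← Nat.card_sigma]
    exact Nat.card_congr
      { toFun := fun x => ⟨x.2.1, x.2.2.1⟩
        invFun := fun v => ⟨(v : G) • base t, v.1, v.2, rfl⟩
        left_inv := fun ⟨q, v, hv, hq⟩ => by subst hq; rfl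
        right_inv := fun v => rfl }
  have hle : ∀ q ∈ Finset.univ, Nat.card (Swaps t q) ≤ e := fun q _ => by
    by_cases hq : q = base t
    · subst hq
      refine le_of_eq (Nat.card_congr (Equiv.subtypeEquivRight fun v => and_congr_right fun hv => ?_))
      rw [fix_base]
      exact ⟨invol_mem_cent hC ht hv, fun h => Subgroup.le_normalizer h⟩
    · exact card_swaps_le hna hC hfix ht hq
  exact (Finset.sum_eq_sum_iff_of_le hle).1 htot p (Finset.mem_univ p)

omit [Finite G] in
theorem mem_pair_iff {t x : G} {p : G ⧸ NA t} :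
    x ∈ NA t ⊓ stabilizer G p ↔ x • base t = base t ∧ x • p = p := by
  rw [Subgroup.mem_inf, mem_stabilizer_iff, fix_base]

theorem pair_inj (hC : CentSame G) (hfix : FixesOne G) {t : G} (ht : orderOf t = 2)
    {p : G ⧸ NA t} (hp : p ≠ base t) (d d' : ↥(NA t ⊓ stabilizer G p))
    (e : (d : G) * t * (d : G)⁻¹ = (d' : G) * t * (d' : G)⁻¹) : d = d' := by
  refine Subtype.ext ?_
  by_contra hne
  have hk : (d : G)⁻¹ * d' ∈ Subgroup.centralizer ({t} : Set G) := by
    rw [Subgroup.mem_centralizer_singleton_iff]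
    calc (d : G)⁻¹ * d' * t = (d : G)⁻¹ * (d' * t * (d' : G)⁻¹) * d' := by group
      _ = (d : G)⁻¹ * (d * t * (d : G)⁻¹) * d' := by rw [e]
      _ = _ := by group
  exact hp (fix_of_mem_cent hfix ht hk (fun h => hne (inv_mul_eq_one.1 h))
    (mem_pair_iff.1 ((NA t ⊓ stabilizer G p).mul_mem (inv_mem d.2) d'.2)).2)

theorem card_pair_and_inverted (hna : Spread G) (hC : CentSame G) (hfix : FixesOne G)
    {t : G} (ht : orderOf t = 2) {p : G ⧸ NA t} (hp : p ≠ base t) :
    Nat.card ↥(NA t ⊓ stabilizer G p) =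
        Nat.card {v : G // orderOf v = 2 ∧ v ∈ Subgroup.centralizer ({t} : Set G)} ∧
      ∀ w : G, orderOf w = 2 → w • base t = p → ∀ x ∈ NA t ⊓ stabilizer G p, w * x * w⁻¹ = x⁻¹ := by
  set e := Nat.card {v : G // orderOf v = 2 ∧ v ∈ Subgroup.centralizer ({t} : Set G)} with he
  have hle : Nat.card ↥(NA t ⊓ stabilizer G p) ≤ e := by
    let f : ↥(NA t ⊓ stabilizer G p) →
        {v : G // orderOf v = 2 ∧ v ∈ Subgroup.centralizer ({t} : Set G)} := fun d =>
      ⟨(d : G) * t * (d : G)⁻¹, (CfsgLib.Invol.orderOf_conj_eq _ t).trans ht,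
        (Subgroup.mem_normalizer_iff.1 (Subgroup.mem_inf.1 d.2).1 t).1
          (Subgroup.mem_centralizer_singleton_iff.2 rfl)⟩
    exact Nat.card_le_card_of_injective f fun d d' h =>
      pair_inj hC hfix ht hp d d' (congrArg Subtype.val h)
  have hsw := card_swaps hna hC hfix ht hp
  have key : ∀ w : G, orderOf w = 2 → w • base t = p →
      Nat.card ↥(NA t ⊓ stabilizer G p) = e ∧
        ∀ x ∈ NA t ⊓ stabilizer G p, w * x * w⁻¹ = x⁻¹ := by
    intro w hw hwp
    have hmem : ∀ v : Swaps t p, w * (v : G) ∈ NA t ⊓ stabilizer G p := fun v => mem_pair_iff.2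
      ⟨by rw [mul_smul, v.2.2, smul_swap hw hwp], by rw [mul_smul, smul_swap v.2.1 v.2.2, hwp]⟩
    let f : Swaps t p → ↥(NA t ⊓ stabilizer G p) := fun v => ⟨w * v, hmem v⟩
    have hf : Function.Injective f := fun v v' h =>
      Subtype.ext (mul_left_cancel (congrArg Subtype.val h))
    have hge := Nat.card_le_card_of_injective f hf
    rw [hsw] at hge
    refine ⟨le_antisymm hle hge, fun x hx => ?_⟩
    obtain ⟨v, hv⟩ := (Function.Injective.bijective_of_nat_card_le hf (by rw [hsw]; exact hle)).2 ⟨x, hx⟩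
    have hx' : w * (v : G) = x := congrArg Subtype.val hv
    have hw2 : w * w = 1 := by rw [← pow_two, ← hw, pow_orderOf_eq_one]
    have hv2 : (v : G) * v = 1 := invol_mul_self v.2.1
    rw [← hx', show w * (w * (v : G)) * w⁻¹ = (w * w) * v * w⁻¹ by group, hw2, one_mul, mul_inv_rev,
      inv_eq_of_mul_eq_one_left hv2]
  obtain ⟨w, hw, hwp⟩ : Nonempty (Swaps t p) := by
    have h3 := three_le_invol hna hC ht
    exact (Nat.card_pos_iff.1 (by rw [hsw]; omega)).1
  exact ⟨(key w hw hwp).1, fun w' hw' hw'p => (key w' hw' hw'p).2⟩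

theorem exists_invol_moving (hC : CentSame G) {t : G} (ht : orderOf t = 2) {u : G}
    (hu : orderOf u = 2) (hu' : u • base t = base t) : u ∈ Subgroup.centralizer ({t} : Set G) :=
  invol_mem_cent hC ht hu (fix_base.1 hu')

theorem exists_swap_pair (hna : Spread G) (hC : CentSame G) (hfix : FixesOne G)
    {t : G} (ht : orderOf t = 2) {q q' : G ⧸ NA t} (hne : q ≠ q') :
    ∃ w : G, orderOf w = 2 ∧ w • q = q' ∧
      ∀ x : G, x • q = q → x • q' = q' → w * x * w⁻¹ = x⁻¹ := by
  obtain ⟨g, rfl⟩ := QuotientGroup.mk_surjective q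
  have hg : g • base t = (g : G ⧸ NA t) := by
    rw [base, MulAction.Quotient.smul_coe, smul_eq_mul, mul_one]
  set p := g⁻¹ • q' with hpdef
  have hp : p ≠ base t := fun e => hne (by
    rw [← hg, ← e, hpdef, smul_inv_smul])
  obtain ⟨hc, hinv⟩ := card_pair_and_inverted hna hC hfix ht hp
  obtain ⟨w, hw, hwp⟩ : Nonempty (Swaps t p) := by
    have h3 := three_le_invol hna hC ht
    exact (Nat.card_pos_iff.1 (by rw [card_swaps hna hC hfix ht hp]; omega)).1
  refine ⟨g * w * g⁻¹, (CfsgLib.Invol.orderOf_conj_eq g w).trans hw, ?_, fun x hx hx' => ?_⟩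
  · rw [mul_smul, mul_smul, ← hg, inv_smul_smul, hwp, hpdef, smul_inv_smul]
  · have h1 := hinv w hw hwp (g⁻¹ * x * g) (mem_pair_iff.2 ⟨by
      rw [mul_smul, mul_smul, hg, hx, ← hg, inv_smul_smul], by
      rw [mul_smul, mul_smul, hpdef, smul_inv_smul, hx']⟩)
    calc g * w * g⁻¹ * x * (g * w * g⁻¹)⁻¹ = g * (w * (g⁻¹ * x * g) * w⁻¹) * g⁻¹ := by group
      _ = g * (g⁻¹ * x * g)⁻¹ * g⁻¹ := by rw [h1]
      _ = _ := by group

/-- A non-trivial element fixing two points fixes no further point. -/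
theorem two_fix (hna : Spread G) (hC : CentSame G) (hfix : FixesOne G)
    {t : G} (ht : orderOf t = 2) {p : G ⧸ NA t} (hp : p ≠ base t) {x : G}
    (hx : x ∈ NA t ⊓ stabilizer G p) (hx1 : x ≠ 1) {q : G ⧸ NA t} (hq : x • q = q) :
    q = base t ∨ q = p := by
  classical
  obtain ⟨hcard, hinv⟩ := card_pair_and_inverted hna hC hfix ht hp
  obtain ⟨hx0, hxp⟩ := mem_pair_iff.1 hx
  obtain ⟨u, hu, hup, huinv⟩ := exists_swap_pair hna hC hfix ht (Ne.symm hp)
  have hu2 : u * u = 1 := by rw [← pow_two, ← hu, pow_orderOf_eq_one]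
  have hui : u⁻¹ = u := inv_eq_of_mul_eq_one_left hu2
  set X := Subgroup.centralizer ({x} : Set G) with hX
  have hxF : ∀ g ∈ X, ∀ r : G ⧸ NA t, x • r = r → x • (g • r) = g • r := fun g hg r hr => by
    rw [smul_smul, ← Subgroup.mem_centralizer_singleton_iff.1 hg, mul_smul, hr]
  have huF : ∀ r : G ⧸ NA t, x • r = r → x • (u • r) = u • r := fun r hr => by
    have h1 : x⁻¹ • r = r := by rw [inv_smul_eq_iff, hr]
    have h2 : u * x⁻¹ * u⁻¹ = x := by rw [← conj_inv, huinv x hx0 hxp, inv_inv]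
    nth_rewrite 1 [← h2]
    rw [mul_smul, mul_smul, hui, smul_smul u u, hu2, one_smul, h1]
  have hux : ∀ g ∈ X, u * g * u⁻¹ ∈ X := fun g hg => Subgroup.mem_centralizer_singleton_iff.2 (by
    have h2 : u * x⁻¹ * u⁻¹ = x := by rw [← conj_inv, huinv x hx0 hxp, inv_inv]
    have hc : g * x⁻¹ = x⁻¹ * g :=
      (show Commute g x from Subgroup.mem_centralizer_singleton_iff.1 hg).inv_right
    calc u * g * u⁻¹ * x = u * g * u⁻¹ * (u * x⁻¹ * u⁻¹) := by rw [h2]
      _ = u * (g * x⁻¹) * u⁻¹ := by group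
      _ = u * (x⁻¹ * g) * u⁻¹ := by rw [hc]
      _ = u * x⁻¹ * u⁻¹ * (u * g * u⁻¹) := by group
      _ = _ := by rw [h2])
  -- every other fixed point lies in the translate of the orbit of the base point
  have hcover : ∀ r : G ⧸ NA t, x • r = r → r ≠ base t → ∃ g ∈ X, g • base t = u • r := by
    intro r hr hr0
    obtain ⟨w, hw, hwr, hwinv⟩ := exists_swap_pair hna hC hfix ht (Ne.symm hr0)
    refine ⟨u * w, Subgroup.mem_centralizer_singleton_iff.2 ?_, by rw [mul_smul, hwr]⟩
    refine mul_inv_eq_iff_eq_mul.1 ?_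
    calc u * w * x * (u * w)⁻¹ = u * (w * x * w⁻¹) * u⁻¹ := by group
      _ = u * x⁻¹ * u⁻¹ := by rw [hwinv x hx0 hr]
      _ = x := by rw [← conj_inv, huinv x hx0 hxp, inv_inv]
  by_cases hmeet : ∃ g ∈ X, ∃ g' ∈ X, g • base t = u • g' • base t
  · -- then the orbit is the whole fixed set: impossible by counting inverting involutions
    exfalso
    obtain ⟨g₁, hg₁, g₂, hg₂, hg⟩ := hmeet
    have horb : ∀ r : G ⧸ NA t, x • r = r → ∃ g ∈ X, g • base t = r := by
      intro r hr
      by_cases hr0 : r = base t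
      · exact ⟨1, one_mem _, by rw [one_smul, hr0]⟩
      · obtain ⟨g, hg', hgr⟩ := hcover r hr hr0
        refine ⟨(u * g * u⁻¹) * (u * g₂⁻¹ * u⁻¹) * g₁, mul_mem (mul_mem (hux g hg')
          (hux _ (inv_mem hg₂))) hg₁, ?_⟩
        rw [mul_smul, hg, show u * g * u⁻¹ * (u * g₂⁻¹ * u⁻¹) = u * g * g₂⁻¹ * u⁻¹ by group,
          mul_smul, inv_smul_smul, mul_smul, inv_smul_smul, mul_smul, hgr, smul_smul, hu2, one_smul]
    set F := {r : G ⧸ NA t // x • r = r}
    haveI : Finite (G ⧸ NA t) := Quotient.finite _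
    haveI := Fintype.ofFinite F
    have hOF : Nat.card F * Nat.card ↥(NA t ⊓ X) = Nat.card X := by
      choose σ hσ hσr using horb
      rw [← Nat.card_prod]
      refine Nat.card_congr
        { toFun := fun pr => ⟨σ pr.1.1 pr.1.2 * pr.2, mul_mem (hσ _ _) (Subgroup.mem_inf.1 pr.2.2).2⟩
          invFun := fun g => (⟨(g : G) • base t, hxF g g.2 _ hx0⟩,
            ⟨(σ ((g : G) • base t) (hxF g g.2 _ hx0))⁻¹ * g, Subgroup.mem_inf.2
              ⟨fix_base.1 (by rw [mul_smul, inv_smul_eq_iff, hσr]), mul_mem (inv_mem (hσ _ _)) g.2⟩⟩)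
          left_inv := ?_
          right_inv := fun g => Subtype.ext (mul_inv_cancel_left _ _) }
      rintro ⟨⟨r, hr⟩, a⟩
      have e : (σ r hr * (a : G)) • base t = r := by
        rw [mul_smul, fix_base.2 (Subgroup.mem_inf.1 a.2).1, hσr]
      have ey : (⟨(σ r hr * (a : G)) • base t, hxF _ (mul_mem (hσ _ _) (Subgroup.mem_inf.1 a.2).2) _ hx0⟩ : F)
          = ⟨r, hr⟩ := Subtype.ext e
      refine Prod.ext ey (Subtype.ext ?_)
      show (σ _ _)⁻¹ * (σ r hr * (a : G)) = a
      rw [inv_mul_eq_iff_eq_mul, mul_left_inj]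
      congr 1
      exact e.symm
    -- the involutions inverting `x`
    have hbase : ∀ v : G, orderOf v = 2 → v * x * v⁻¹ = x⁻¹ → v • base t ≠ base t := by
      intro v hv hvx h
      have hvA := invol_mem_cent hC ht hv (fix_base.1 h)
      have hv' : x * v * x⁻¹ ∈ Subgroup.centralizer ({t} : Set G) :=
        (Subgroup.mem_normalizer_iff.1 (Subgroup.mem_inf.1 hx).1 v).1 hvA
      have hx2 : x⁻¹ * x⁻¹ ∈ Subgroup.centralizer ({t} : Set G) := by
        have h1 := mul_mem hvA (inv_mem hv')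
        rwa [show v * (x * v * x⁻¹)⁻¹ = (v * x * v⁻¹) * x⁻¹ by group, hvx] at h1
      have hne : x⁻¹ * x⁻¹ ≠ 1 := fun h2 => by
        have hodd := odd_of_two_fix hC hfix ht (Subgroup.mem_inf.1 hx).1 hp hxp
        have h3 : x ^ 2 = 1 := by
          rw [pow_two]
          rw [← mul_inv_rev, inv_eq_one] at h2
          exact h2
        have h4 := orderOf_dvd_of_pow_eq_one h3
        rcases (Nat.dvd_prime Nat.prime_two).1 h4 with h5 | h5
        · exact hx1 (orderOf_eq_one_iff.1 h5)
        · rw [h5] at hodd; exact absurd hodd (by decide)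
      refine hp (fix_of_mem_cent hfix ht hx2 hne ?_)
      rw [mul_smul, show x⁻¹ • p = p by rw [inv_smul_eq_iff, hxp],
        show x⁻¹ • p = p by rw [inv_smul_eq_iff, hxp]]
    set J := {v : G // orderOf v = 2 ∧ v * x * v⁻¹ = x⁻¹}
    have hJX : Nat.card J = Nat.card X := by
      refine le_antisymm ?_ ?_
      · let f : J → X := fun v => ⟨u * v, Subgroup.mem_centralizer_singleton_iff.2
          (mul_inv_eq_iff_eq_mul.1 (by
            calc u * (v : G) * x * (u * v)⁻¹ = u * ((v : G) * x * (v : G)⁻¹) * u⁻¹ := by group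
              _ = u * x⁻¹ * u⁻¹ := by rw [v.2.2]
              _ = x := by rw [← conj_inv, huinv x hx0 hxp, inv_inv]))⟩
        exact Nat.card_le_card_of_injective f fun a b h =>
          Subtype.ext (mul_left_cancel (congrArg Subtype.val h))
      · let f : X → J := fun g => ⟨(g : G) * u * (g : G)⁻¹, (CfsgLib.Invol.orderOf_conj_eq _ u).trans hu, by
          have hc : Commute (g : G) x := Subgroup.mem_centralizer_singleton_iff.1 g.2
          calc (g : G) * u * (g : G)⁻¹ * x * ((g : G) * u * (g : G)⁻¹)⁻¹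
              = g * u * ((g : G)⁻¹ * x * g) * u⁻¹ * (g : G)⁻¹ := by group
            _ = g * (u * x * u⁻¹) * (g : G)⁻¹ := by rw [mul_assoc _ x, ← hc.eq, inv_mul_cancel_left]; group
            _ = g * x⁻¹ * (g : G)⁻¹ := by rw [huinv x hx0 hxp]
            _ = x⁻¹ := by rw [hc.inv_right.eq, mul_inv_cancel_right]⟩
        refine Nat.card_le_card_of_injective f fun a b h => ?_
        have h' : (a : G) * u * (a : G)⁻¹ = (b : G) * u * (b : G)⁻¹ := congrArg Subtype.val h
        by_contra hne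
        set k := (a : G)⁻¹ * b
        have hk1 : k ≠ 1 := fun e => hne (Subtype.ext (inv_mul_eq_one.1 e))
        have hku : k * u = u * k := by
          calc k * u = (a : G)⁻¹ * (b * u * (b : G)⁻¹) * b := by simp only [k]; group
            _ = (a : G)⁻¹ * (a * u * (a : G)⁻¹) * b := by rw [h']
            _ = _ := by simp only [k]; group
        -- `k` lies in the centraliser of `u`, so fixes only the fixed point of `u`
        obtain ⟨g, hg⟩ := isConj_iff.1 (isConj_invol hna hC ht hu)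
        have hu' : ∀ r : G ⧸ NA t, k • r = r → r = (g : G ⧸ NA t) := by
          intro r hr
          have hk' : g⁻¹ * k * g ∈ Subgroup.centralizer ({t} : Set G) := by
            rw [← mem_cent_conj_iff, hg, Subgroup.mem_centralizer_singleton_iff]
            exact hku
          have h1 := fix_of_mem_cent hfix ht hk' (fun e => hk1 (by
            calc k = g * (g⁻¹ * k * g) * g⁻¹ := by group
              _ = 1 := by rw [e]; group)) (q := g⁻¹ • r)
            (by rw [mul_smul, mul_smul, smul_inv_smul, hr])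
          rw [inv_smul_eq_iff, base, MulAction.Quotient.smul_coe, smul_eq_mul, mul_one] at h1
          exact h1
        have hkg : k • (g : G ⧸ NA t) = g := by
          rw [fix_iff]
          refine Subgroup.le_normalizer ?_
          rw [← mem_cent_conj_iff, hg, Subgroup.mem_centralizer_singleton_iff]
          exact hku
        have hug : u • (g : G ⧸ NA t) = g := by
          rw [fix_iff, ← hg, show g⁻¹ * (g * t * g⁻¹) * g = t by group]
          exact Subgroup.le_normalizer (Subgroup.mem_centralizer_singleton_iff.2 rfl)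
        -- so `x` fixes it as well, and then `u` fixes the base point of that pair
        have hkx : k * x = x * k := Subgroup.mem_centralizer_singleton_iff.1 (X.mul_mem (inv_mem a.2) b.2)
        have hxg : x • (g : G ⧸ NA t) = g := hu' _ (by rw [smul_smul, hkx, mul_smul, hkg])
        have hxo := odd_of_two_fix hC hfix ht (Subgroup.mem_inf.1 hx).1 hp hxp
        -- conjugate to the base point
        set x' := g⁻¹ * x * g
        have hx'M : x' ∈ NA t := fix_iff.1 hxg
        have hinv' : t * x' * t⁻¹ = x'⁻¹ := by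
          have e : u = g * t * g⁻¹ := hg.symm
          calc t * x' * t⁻¹ = g⁻¹ * (u * x * u⁻¹) * g := by rw [e]; simp only [x']; group
            _ = g⁻¹ * x⁻¹ * g := by rw [huinv x hx0 hxp]
            _ = _ := by simp only [x']; group
        have hsq : x'⁻¹ * x'⁻¹ ∈ Subgroup.centralizer ({t} : Set G) := by
          have htA : t ∈ Subgroup.centralizer ({t} : Set G) := Subgroup.mem_centralizer_singleton_iff.2 rfl
          have h1 := mul_mem htA (inv_mem ((Subgroup.mem_normalizer_iff.1 hx'M t).1 htA))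
          rwa [show t * (x' * t * x'⁻¹)⁻¹ = (t * x' * t⁻¹) * x'⁻¹ by group, hinv'] at h1
        have hne2 : x'⁻¹ * x'⁻¹ ≠ 1 := fun e => by
          have e1 : x ^ 2 = 1 := by
            rw [pow_two]
            calc x * x = g * (x'⁻¹ * x'⁻¹)⁻¹ * g⁻¹ := by simp [x', mul_assoc]
              _ = 1 := by rw [e, inv_one, mul_one, mul_inv_cancel]
          rcases (Nat.dvd_prime Nat.prime_two).1 (orderOf_dvd_of_pow_eq_one e1) with h5 | h5
          · exact hx1 (orderOf_eq_one_iff.1 h5)
          · rw [h5] at hxo; exact absurd hxo (by decide)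
        have hfixall : ∀ r : G ⧸ NA t, x • r = r → (x'⁻¹ * x'⁻¹) • (g⁻¹ • r) = g⁻¹ • r := by
          intro r hr
          have h1 : x⁻¹ • r = r := by rw [inv_smul_eq_iff, hr]
          rw [smul_smul, show x'⁻¹ * x'⁻¹ * g⁻¹ = g⁻¹ * (x⁻¹ * x⁻¹) by simp only [x']; group,
            mul_smul, mul_smul, h1, h1]
        have e0 := fix_of_mem_cent hfix ht hsq hne2 (hfixall _ hx0)
        have ep := fix_of_mem_cent hfix ht hsq hne2 (hfixall _ hxp)
        exact hp (MulAction.injective g⁻¹ (ep.trans e0.symm))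
    have hJF : Nat.card J = (Nat.card F - 1) *
        Nat.card {v : G // orderOf v = 2 ∧ v ∈ Subgroup.centralizer ({t} : Set G)} := by
      have h1 : Nat.card J = Nat.card (Σ r : {r : F // (r : G ⧸ NA t) ≠ base t}, Swaps t r.1.1) := by
        refine Nat.card_congr
          { toFun := fun v => ⟨⟨⟨(v : G) • base t, ?_⟩, hbase v v.2.1 v.2.2⟩, ⟨v, v.2.1, rfl⟩⟩
            invFun := fun s => ⟨s.2, s.2.2.1, ?_⟩
            left_inv := fun v => rfl
            right_inv := fun ⟨⟨⟨r, hr⟩, hr0⟩, v, hv, hvr⟩ => by dsimp only at hvr; subst hvr; rfl }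
        · calc x • (v : G) • base t = ((v : G) * x⁻¹ * (v : G)⁻¹) • (v : G) • base t := by
                rw [← conj_inv, v.2.2, inv_inv]
            _ = (v : G) • x⁻¹ • base t := by rw [mul_smul, mul_smul, inv_smul_smul]
            _ = _ := by rw [inv_smul_eq_iff.2 hx0.symm]
        · obtain ⟨⟨⟨r, hr⟩, hr0⟩, v, hv, hvr⟩ := s
          exact (card_pair_and_inverted hna hC hfix ht hr0).2 v hv hvr x (mem_pair_iff.2 ⟨hx0, hr⟩)
      rw [h1, Nat.card_sigma, Finset.sum_congr rfl fun r _ => card_swaps hna hC hfix ht r.2,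
        Finset.sum_const, Finset.card_univ, smul_eq_mul]
      congr 1
      rw [Fintype.card_subtype_compl, Nat.card_eq_fintype_card]
      congr 1
      exact Fintype.card_eq_one_iff.2 ⟨⟨⟨base t, hx0⟩, rfl⟩, fun r => Subtype.ext (Subtype.ext r.2)⟩
    have hd : Nat.card {v : G // orderOf v = 2 ∧ v ∈ Subgroup.centralizer ({t} : Set G)} ∣
        Nat.card ↥(NA t ⊓ X) := by
      rw [← hcard]
      refine Subgroup.card_dvd_of_le fun d hd => Subgroup.mem_inf.2 ⟨(Subgroup.mem_inf.1 hd).1,
        Subgroup.mem_centralizer_singleton_iff.2 ?_⟩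
      obtain ⟨w, hw, hwp⟩ : ∃ w, orderOf w = 2 ∧ w • base t = p := ⟨u, hu, hup⟩
      have h1 := hinv w hw hwp (d * x) (mul_mem hd hx)
      rw [show w * (d * x) * w⁻¹ = (w * d * w⁻¹) * (w * x * w⁻¹) by group, hinv w hw hwp d hd,
        hinv w hw hwp x hx, ← mul_inv_rev, inv_inj] at h1
      exact h1.symm
    obtain ⟨c, hc⟩ := hd
    have h3 := three_le_invol hna hC ht
    have h2F : 2 ≤ Nat.card F := by
      haveI : Nontrivial F := ⟨⟨⟨base t, hx0⟩, ⟨p, hxp⟩, fun e => hp (congrArg Subtype.val e).symm⟩⟩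
      exact Finite.one_lt_card
    have heq : Nat.card F * (Nat.card {v : G // orderOf v = 2 ∧ v ∈ Subgroup.centralizer ({t} : Set G)} * c) =
        (Nat.card F - 1) * Nat.card {v : G // orderOf v = 2 ∧ v ∈ Subgroup.centralizer ({t} : Set G)} := by
      rw [← hc, hOF, ← hJX, hJF]
    obtain ⟨f, hf⟩ : ∃ f, Nat.card F = f + 2 := ⟨Nat.card F - 2, by omega⟩
    rw [hf, show f + 2 - 1 = f + 1 by omega] at heq
    rcases Nat.eq_zero_or_pos c with rfl | hc0
    · simp only [mul_zero] at heq
      nlinarith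
    · nlinarith [Nat.le_mul_of_pos_right ((f + 2) *
        Nat.card {v : G // orderOf v = 2 ∧ v ∈ Subgroup.centralizer ({t} : Set G)}) hc0]
  · push Not at hmeet
    have hO : ∀ g ∈ X, g • base t = base t := by
      intro g hg
      by_contra hne
      obtain ⟨g', hg', e⟩ := hcover _ (hxF g hg _ hx0) hne
      exact hmeet g hg g' hg' (by rw [e, smul_smul, hu2, one_smul])
    by_cases hq0 : q = base t
    · exact Or.inl hq0
    · obtain ⟨g, hg, hgq⟩ := hcover q hq hq0
      right
      rw [hO g hg] at hgq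
      rw [← hup]
      calc q = u • (u • q) := by rw [smul_smul, hu2, one_smul]
        _ = u • base t := by rw [← hgq]

end CfsgLib.PGroup.CAI
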