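import Cfsg.Agent.S0731
import Cfsg.Agent.S1230
import Cfsg.Agent.Lib.PGroup.SelfCentSimple.PSL
import Cfsg.Agent.Lib.PGroup.CAI.Points

/-!
# Abelian involution centralisers: identification with two-dimensional linear groups
-/

set_option autoImplicit false

namespace CfsgLib.PGroup.CAI

open MulAction

universe u

variable {G : Type u} [Group G] [Finite G]

theorem card_points_le (hna : Spread G) (hC : CentSame G) (hfix : FixesOne G) {t : G}
    (ht : orderOf t = 2) :
    Nat.card {q : G ⧸ NA t // q ≠ base t} ≤ Nat.card (Subgroup.centralizer ({t} : Set G)) := by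
  classical
  haveI : Finite (G ⧸ NA t) := Quotient.finite _
  haveI := Fintype.ofFinite {q : G ⧸ NA t // q ≠ base t}
  set e := Nat.card {v : G // orderOf v = 2 ∧ v ∈ Subgroup.centralizer ({t} : Set G)} with he
  set A := Subgroup.centralizer ({t} : Set G) with hA
  have h3 : 3 ≤ e := three_le_invol hna hC ht
  -- pairs of a point and a non-trivial element fixing it
  have hD : ∀ q : {q : G ⧸ NA t // q ≠ base t},
      Nat.card {d : ↥(NA t ⊓ stabilizer G q.1) // d ≠ 1} = e - 1 := fun q => by
    haveI := Fintype.ofFinite ↥(NA t ⊓ stabilizer G q.1)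
    rw [Nat.card_eq_fintype_card, Fintype.card_subtype_compl, Fintype.card_subtype_eq,
      ← Nat.card_eq_fintype_card, (card_pair_and_inverted hna hC hfix ht q.2).1]
  let f : (Σ q : {q : G ⧸ NA t // q ≠ base t}, {d : ↥(NA t ⊓ stabilizer G q.1) // d ≠ 1}) →
      {m : ↥(NA t) // m ∉ A.subgroupOf (NA t)} := fun s =>
    ⟨⟨(s.2.1 : G), (Subgroup.mem_inf.1 s.2.1.2).1⟩, fun h => s.1.2 (fix_of_mem_cent hfix ht
      (Subgroup.mem_subgroupOf.1 h) (fun e1 => s.2.2 (Subtype.ext e1)) (mem_pair_iff.1 s.2.1.2).2)⟩
  have hf : Function.Injective f := by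
    rintro ⟨⟨q, hq⟩, ⟨d, hd⟩, hd1⟩ ⟨⟨q', hq'⟩, ⟨d', hd'⟩, hd1'⟩ h
    have h' : d = d' := congrArg (fun m : {m : ↥(NA t) // m ∉ A.subgroupOf (NA t)} => ((m : ↥(NA t)) : G)) h
    subst h'
    obtain rfl : q = q' := ((two_fix hna hC hfix ht hq' hd' (fun e1 => hd1' (Subtype.ext e1))
      (mem_pair_iff.1 hd).2).resolve_left hq)
    rfl
  have h1 := Nat.card_le_card_of_injective f hf
  haveI := Fintype.ofFinite ↥(NA t)
  rw [Nat.card_sigma, Finset.sum_congr rfl fun q _ => hD q, Finset.sum_const, Finset.card_univ,
    smul_eq_mul, ← Nat.card_eq_fintype_card, Nat.card_eq_fintype_card (α := {m : ↥(NA t) // _}),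
    Fintype.card_subtype_compl, ← Nat.card_eq_fintype_card (α := ↥(NA t)),
    ← Nat.card_eq_fintype_card (α := {m : ↥(NA t) // m ∈ A.subgroupOf (NA t)})] at h1
  have h2 : Nat.card {m : ↥(NA t) // m ∈ A.subgroupOf (NA t)} = Nat.card A :=
    Nat.card_congr (Subgroup.subgroupOfEquivOfLe (Subgroup.le_normalizer : A ≤ NA t)).toEquiv
  rw [h2, show Nat.card ↥(NA t) = e * Nat.card A from (card_normalizer hna hC ht).symm] at h1
  obtain ⟨k, hk⟩ : ∃ k, e = k + 1 := ⟨e - 1, by omega⟩
  rw [hk, Nat.add_sub_cancel, show (k + 1) * Nat.card A - Nat.card A = k * Nat.card A by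
    rw [add_mul, one_mul, Nat.add_sub_cancel]] at h1
  refine Nat.le_of_mul_le_mul_right ?_ (show 0 < k by omega)
  calc Nat.card {q : G ⧸ NA t // q ≠ base t} * k ≤ k * Nat.card A := h1
    _ = Nat.card A * k := mul_comm _ _

/-- The action on the cosets of `N(A)`: regular off the base point, a Zassenhaus group. -/
theorem zassenhaus_data (hna : Spread G) (hC : CentSame G) (hfix : FixesOne G) {t : G}
    (ht : orderOf t = 2) :
    (∀ y z : G ⧸ NA t, y ≠ base t → z ≠ base t →
      ∃! u : Subgroup.centralizer ({t} : Set G), (u : G) • y = z) ∧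
    Nat.card (G ⧸ NA t) = Nat.card (Subgroup.centralizer ({t} : Set G)) + 1 ∧
    stabilizer G (base t) = NA t ∧ Cfsg.IsZassenhausGroup G (G ⧸ NA t) := by
  classical
  set A := Subgroup.centralizer ({t} : Set G) with hA
  set e := Nat.card {v : G // orderOf v = 2 ∧ v ∈ Subgroup.centralizer ({t} : Set G)} with he
  have h3 : 3 ≤ e := three_le_invol hna hC ht
  haveI : Finite (G ⧸ NA t) := Quotient.finite _
  haveI := Fintype.ofFinite (G ⧸ NA t)
  have hreg : ∀ y z : G ⧸ NA t, y ≠ base t → z ≠ base t → ∃! u : A, (u : G) • y = z := by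
    intro y z hy hz
    have hmaps : ∀ u : A, (u : G) • y ≠ base t := fun u h => hy (by
      have h1 : ((u⁻¹ : A) : G) • base t = base t := fix_base.2 (Subgroup.le_normalizer (u⁻¹).2)
      rw [← h, Subgroup.coe_inv, inv_smul_smul] at h1
      exact h1.trans h)
    let f : A → {q : G ⧸ NA t // q ≠ base t} := fun u => ⟨(u : G) • y, hmaps u⟩
    have hinj : Function.Injective f := fun a b h => by
      have h1 : (a : G) • y = (b : G) • y := congrArg Subtype.val h
      by_contra hne
      exact hy (fix_of_mem_cent hfix ht (A.mul_mem (A.inv_mem b.2) a.2)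
        (fun e1 => hne (Subtype.ext (inv_mul_eq_one.1 e1)).symm) (by rw [mul_smul, h1, inv_smul_smul]))
    obtain ⟨u, hu⟩ := (Function.Injective.bijective_of_nat_card_le hinj
      (card_points_le hna hC hfix ht)).2 ⟨z, hz⟩
    exact ⟨u, congrArg Subtype.val hu, fun w hw =>
      hinj (Subtype.ext (hw.trans (congrArg Subtype.val hu).symm))⟩
  have hΩ : Nat.card (G ⧸ NA t) = Nat.card A + 1 := by
    obtain ⟨g, hg⟩ : ∃ g, g ∉ NA t := by
      by_contra hall
      push Not at hall
      exact normalizer_ne_top hna ht ((Subgroup.eq_top_iff' _).2 hall)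
    have hy : (g : G ⧸ NA t) ≠ base t := fun h => hg (coe_eq_base.1 h)
    have he' : A ≃ {q : G ⧸ NA t // q ≠ base t} := Equiv.ofBijective
      (fun u => ⟨(u : G) • (g : G ⧸ NA t), fun h => hy (by
        have h1 : ((u⁻¹ : A) : G) • base t = base t := fix_base.2 (Subgroup.le_normalizer (u⁻¹).2)
        rw [← h, Subgroup.coe_inv, inv_smul_smul] at h1
        exact h1.trans h)⟩)
      ⟨fun a b h => (hreg _ _ hy (fun h' => hy (by
          have h1 : ((b⁻¹ : A) : G) • base t = base t := fix_base.2 (Subgroup.le_normalizer (b⁻¹).2)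
          rw [← h', Subgroup.coe_inv, inv_smul_smul] at h1
          exact h1.trans h'))).unique (congrArg Subtype.val h) rfl,
        fun z => ⟨(hreg _ _ hy z.2).exists.choose, Subtype.ext (hreg _ _ hy z.2).exists.choose_spec⟩⟩
    rw [Nat.card_congr he', Nat.card_eq_fintype_card, Nat.card_eq_fintype_card,
      Fintype.card_subtype_compl, Fintype.card_subtype_eq]
    have := Fintype.card_pos_iff.2 ⟨base t⟩
    omega
  have hA2 : 2 ≤ Nat.card A := by
    have h1 := orderOf_dvd_natCard (⟨t, Subgroup.mem_centralizer_singleton_iff.2 rfl⟩ : A)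
    rw [Subgroup.orderOf_mk, ht] at h1
    exact Nat.le_of_dvd Nat.card_pos h1
  have hstab : stabilizer G (base t) = NA t := by
    ext u; rw [mem_stabilizer_iff, fix_base]
  have hAle : A ≤ NA t := Subgroup.le_normalizer
  have h2t : MulAction.IsMultiplyPretransitive G (G ⧸ NA t) 2 := by
    rw [MulAction.is_two_pretransitive_iff]
    intro a b c d hab hcd
    obtain ⟨g, hg⟩ := MulAction.exists_smul_eq G a (base t)
    obtain ⟨k, hk⟩ := MulAction.exists_smul_eq G c (base t)
    have hgb : g • b ≠ base t := fun h => hab (MulAction.injective g (hg.trans h.symm))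
    have hke : k • d ≠ base t := fun h => hcd (MulAction.injective k (hk.trans h.symm))
    obtain ⟨u, hu, -⟩ := hreg _ _ hgb hke
    refine ⟨k⁻¹ * u * g, ?_, ?_⟩
    · rw [mul_smul, mul_smul, hg, fix_base.2 (hAle u.2), ← hk, inv_smul_smul]
    · rw [mul_smul, mul_smul, hu, inv_smul_smul]
  have hZ : Cfsg.IsZassenhausGroup G (G ⧸ NA t) := by
    refine ⟨⟨fun {a b} hab => ?_⟩, h2t, ?_, ?_, ?_⟩
    · have hmem : a⁻¹ * b ∈ (MulAction.toPermHom G (G ⧸ NA t)).ker := by
        rw [MonoidHom.mem_ker]
        refine Equiv.Perm.ext fun w => ?_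
        show (a⁻¹ * b) • w = w
        rw [mul_smul, ← hab w, inv_smul_smul]
      have hfixall : ∀ w : G ⧸ NA t, (a⁻¹ * b) • w = w := fun w => by
        rw [mul_smul, ← hab w, inv_smul_smul]
      obtain ⟨y, hy⟩ := Fintype.exists_ne_of_one_lt_card
        (by rw [← Nat.card_eq_fintype_card, hΩ]; omega) (base t)
      obtain ⟨z, -, hz⟩ := Finset.exists_mem_notMem_of_card_lt_card (s := ({base t, y} : Finset (G ⧸ NA t)))
        (t := Finset.univ) (by
          rw [Finset.card_univ, ← Nat.card_eq_fintype_card, hΩ]
          have := (Finset.card_le_two : ({base t, y} : Finset (G ⧸ NA t)).card ≤ 2)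
          omega)
      simp only [Finset.mem_insert, Finset.mem_singleton, not_or] at hz
      by_contra hne
      rcases two_fix hna hC hfix ht hy (mem_pair_iff.2 ⟨hfixall _, hfixall _⟩)
        (fun h => hne (inv_mul_eq_one.1 h)) (hfixall z) with h | h
      · exact hz.1 h
      · exact hz.2 h
    · intro g a b c hab hbc hac ha hb hc
      obtain ⟨k, hk⟩ := MulAction.exists_smul_eq G a (base t)
      have hfx : ∀ {w : G ⧸ NA t}, g • w = w → (k * g * k⁻¹) • (k • w) = k • w := fun {w} hw => by
        rw [mul_smul, mul_smul, inv_smul_smul, hw]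
      have hkb : k • b ≠ base t := fun h => hab (MulAction.injective k (hk.trans h.symm))
      have hkc : k • c ≠ base t := fun h => hac (MulAction.injective k (hk.trans h.symm))
      by_contra hg1
      rcases two_fix hna hC hfix ht hkb (mem_pair_iff.2 ⟨hk ▸ hfx ha, hfx hb⟩)
        (fun h => hg1 (conj_eq_one_iff.1 h)) (hfx hc) with h | h
      · exact hkc h
      · exact hbc (MulAction.injective k h).symm
    · obtain ⟨y, hy⟩ := Fintype.exists_ne_of_one_lt_card
        (by rw [← Nat.card_eq_fintype_card, hΩ]; omega) (base t)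
      haveI : Nontrivial ↥(NA t ⊓ stabilizer G y) := Finite.one_lt_card_iff_nontrivial.1 (by
        rw [(card_pair_and_inverted hna hC hfix ht hy).1]; omega)
      obtain ⟨d, hd⟩ := exists_ne (1 : ↥(NA t ⊓ stabilizer G y))
      exact ⟨d, fun h => hd (Subtype.ext h), base t, y, hy.symm, (mem_pair_iff.1 d.2).1,
        (mem_pair_iff.1 d.2).2⟩
    · intro N hN htr
      by_contra hall
      push Not at hall
      have hfree : ∀ n ∈ N, n • base t = base t → n = 1 := fun n hn h => by
        have h1 : (⟨n, hn⟩ : N) ∈ stabilizer N (base t) := mem_stabilizer_iff.2 h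
        have h1 := Subgroup.mem_bot.1 ((hall (base t)).le h1)
        exact congrArg Subtype.val h1
      have hinv : ∀ w ∈ A, orderOf w = 2 → ∀ n ∈ N, w * n * w⁻¹ = n⁻¹ := by
        intro w hwA hw
        have hww := invol_mul_self hw
        have hw' : w⁻¹ = w := inv_eq_of_mul_eq_one_left hww
        let f : N → N := fun n => ⟨(n : G)⁻¹ * (w * n * w⁻¹), N.mul_mem (N.inv_mem n.2) (hN.conj_mem _ n.2 w)⟩
        have hf : Function.Injective f := by
          intro n m e
          have e' : (n : G)⁻¹ * (w * n * w⁻¹) = (m : G)⁻¹ * (w * m * w⁻¹) := congrArg Subtype.val e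
          have hcm : ((m : G) * (n : G)⁻¹) * w = w * ((m : G) * (n : G)⁻¹) := by
            calc (m : G) * (n : G)⁻¹ * w
                = (m : G) * ((n : G)⁻¹ * (w * n * w⁻¹)) * (w * (n : G)⁻¹) := by group
              _ = (m : G) * ((m : G)⁻¹ * (w * m * w⁻¹)) * (w * (n : G)⁻¹) := by rw [e']
              _ = _ := by group
          have hmem : (m : G) * (n : G)⁻¹ ∈ NA t := hAle (by
            rw [hA, ← cent_eq_of_comm hC hw ht (Subgroup.mem_centralizer_singleton_iff.1 hwA).symm]
            exact Subgroup.mem_centralizer_singleton_iff.2 hcm)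
          exact Subtype.ext (mul_inv_eq_one.1 (hfree _ (N.mul_mem m.2 (N.inv_mem n.2))
            (fix_base.2 hmem))).symm
        intro n hn
        obtain ⟨m, hm⟩ := (Finite.injective_iff_surjective.1 hf) ⟨n, hn⟩
        have hm' : (m : G)⁻¹ * (w * m * w⁻¹) = n := congrArg Subtype.val hm
        subst hm'
        rw [hw']
        calc w * ((m : G)⁻¹ * (w * m * w)) * w = w * (m : G)⁻¹ * w * m * (w * w) := by group
          _ = w⁻¹ * (m : G)⁻¹ * w⁻¹ * m := by rw [hww, mul_one, hw']
          _ = _ := by group
      obtain ⟨v, hv, hvt, hvA⟩ := hna.second t ht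
      have htA : t ∈ A := Subgroup.mem_centralizer_singleton_iff.2 rfl
      have hcm : t * v = v * t := (Subgroup.mem_centralizer_singleton_iff.1 hvA).symm
      have hu : orderOf (t * v) = 2 := by
        haveI : Fact (Nat.Prime 2) := ⟨Nat.prime_two⟩
        refine orderOf_eq_prime ?_ fun e => hvt ?_
        · rw [(show Commute t v from hcm).mul_pow, pow_two, pow_two, invol_mul_self ht, invol_mul_self hv,
            mul_one]
        · calc v = t * t * v := by rw [invol_mul_self ht, one_mul]
            _ = t * (t * v) := mul_assoc _ _ _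
            _ = t := by rw [e, mul_one]
      obtain ⟨y, hy⟩ := Fintype.exists_ne_of_one_lt_card
        (by rw [← Nat.card_eq_fintype_card, hΩ]; omega) (base t)
      obtain ⟨⟨n, hn⟩, hny⟩ := htr.exists_smul_eq (base t) y
      have h1 := hinv (t * v) (A.mul_mem htA hvA) hu n hn
      have h2 : t * v * n * (t * v)⁻¹ = n := by
        calc t * v * n * (t * v)⁻¹ = t * (v * n * v⁻¹) * t⁻¹ := by group
          _ = t * n⁻¹ * t⁻¹ := by rw [hinv v hvA hv n hn]
          _ = (t * n * t⁻¹)⁻¹ := by group
          _ = n := by rw [hinv t htA ht n hn, inv_inv]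
      have h3 : n ∈ NA t := hAle (by
        rw [hA, ← cent_eq_of_comm hC hu ht
          (Subgroup.mem_centralizer_singleton_iff.1 (A.mul_mem htA hvA)).symm]
        exact Subgroup.mem_centralizer_singleton_iff.2 (mul_inv_eq_iff_eq_mul.1 h2).symm)
      have hn1 := hfree n hn (fix_base.2 h3)
      exact hy (by rw [← hny]; show _ = _; subst hn1; exact one_smul _ _)
  exact ⟨hreg, hΩ, hstab, hZ⟩

theorem exponent_two (hna : TwoGood G) (hC : CentAbelian G) (hfix : FixesOne G) {t : G}
    (ht : orderOf t = 2) : ∀ c ∈ Subgroup.centralizer ({t} : Set G), c ^ 2 = 1 := by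
  classical
  set A := Subgroup.centralizer ({t} : Set G) with hA
  set e := Nat.card {v : G // orderOf v = 2 ∧ v ∈ Subgroup.centralizer ({t} : Set G)} with he
  have h3 : 3 ≤ e := three_le_invol (hna.spread hC) hC.same ht
  obtain ⟨hreg, hΩ, hstab, hZ⟩ := zassenhaus_data (hna.spread hC) hC.same hfix ht
  haveI : Finite (G ⧸ NA t) := Quotient.finite _
  haveI := Fintype.ofFinite (G ⧸ NA t)
  rw [← hA] at hreg hΩ
  have hAle : A ≤ NA t := Subgroup.le_normalizer
  have hGc : Nat.card G = (Nat.card A + 1) * (e * Nat.card A) := by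
    rw [← hΩ, card_normalizer (hna.spread hC) hC.same ht, ← Subgroup.index_eq_card, Subgroup.index_mul_card]
  have hele : e + 1 ≤ Nat.card A := by
    let f : Option {v : G // orderOf v = 2 ∧ v ∈ A} → A := fun o => o.elim 1 fun v => ⟨v, v.2.2⟩
    have hf : Function.Injective f := by
      rintro (_ | v) (_ | w) h
      · rfl
      · exact absurd (congrArg Subtype.val h).symm (CfsgLib.Invol.ne_one_of_orderOf_two w.2.1)
      · exact absurd (congrArg Subtype.val h) (CfsgLib.Invol.ne_one_of_orderOf_two v.2.1)
      · exact congrArg some (Subtype.ext (congrArg (fun z : A => (z : G)) h))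
    have := Nat.card_le_card_of_injective f hf
    rwa [Finite.card_option] at this
  have hkey : Nat.card A ≤ e + 1 := by
    haveI : (A.subgroupOf (stabilizer G (base t))).Normal :=
      Subgroup.normal_subgroupOf_of_le_normalizer (hstab.le)
    rcases Cfsg.Agent.S0731.result hZ (base t) A (hstab.symm ▸ hAle) inferInstance (hC t ht) hreg with
      ⟨h, -⟩ | ⟨K, iK, iF, hK, ⟨φ⟩⟩
    · obtain ⟨t₀⟩ : Nonempty (Fin 3 ↪ G ⧸ NA t) := Function.Embedding.nonempty_of_card_le (by
        rw [Fintype.card_fin, ← Nat.card_eq_fintype_card, hΩ]; omega)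
      have h4 := Nat.card_le_card_of_surjective (fun g : G => g • t₀) fun s => h.exists_smul_eq t₀ s
      rw [Nat.card_eq_fintype_card (α := Fin 3 ↪ G ⧸ NA t), Fintype.card_embedding_eq, Fintype.card_fin,
        ← Nat.card_eq_fintype_card, hΩ, hGc] at h4
      obtain ⟨a, ha⟩ : ∃ a, Nat.card A = a + 1 := ⟨Nat.card A - 1, by omega⟩
      rw [ha, show (a + 1 + 1).descFactorial 3 = (a + 1 + 1) * ((a + 1) * a) by
        rw [Nat.descFactorial_succ, Nat.descFactorial_succ, Nat.descFactorial_succ,
          Nat.descFactorial_zero, show a + 1 + 1 - 2 = a by omega,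
          show a + 1 + 1 - 1 = a + 1 by omega, Nat.sub_zero, mul_one]
        ring] at h4
      have h5 := Nat.le_of_mul_le_mul_left h4 (by omega)
      rw [mul_comm e] at h5
      have h6 := Nat.le_of_mul_le_mul_left h5 (by omega)
      omega
    · have h2 : (2 : K) ≠ 0 := fun h2 =>
        hK (CharP.ringChar_of_prime_eq_zero Nat.prime_two (by exact_mod_cast h2))
      have hx : orderOf (φ t) = 2 := (φ.orderOf_eq t).trans ht
      have hcard : Nat.card (Subgroup.centralizer ({φ t} :
          Set (Matrix.ProjectiveSpecialLinearGroup (Fin 2) K))) = Nat.card A := by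
        refine (Nat.card_congr (φ.toEquiv.subtypeEquiv fun y => ?_)).symm
        simp only [hA, Subgroup.mem_centralizer_singleton_iff, MulEquiv.toEquiv_eq_coe, EquivLike.coe_coe]
        rw [← map_mul, ← map_mul, φ.injective.eq_iff]
      rw [CfsgLib.PGroup.SelfCentSimple.card_centralizer_invol h2 hx] at hcard
      have hP := CfsgLib.PGroup.SelfCentSimple.two_card_psl h2
      rw [← Nat.card_congr φ.toEquiv, hGc] at hP
      obtain ⟨m, hm⟩ : ∃ m, Fintype.card K = 2 * m + 1 :=
        ⟨Fintype.card K / 2, by have := FiniteField.odd_card_of_char_ne_two hK; omega⟩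
      have hm1 : 0 < m := by have : 1 < Fintype.card K := Fintype.one_lt_card; omega
      have hsq : (2 * m + 1) ^ 2 - 1 = 2 * m * (2 * m + 2) := Nat.sub_eq_of_eq_add (by ring)
      rw [hm] at hcard hP
      rw [hsq] at hP
      split_ifs at hcard with h4
      · -- the centralizer has order `q + 1`: impossible
        exfalso
        rw [← hcard] at hP hele
        have h5 : (2 * m + 3) * e = (2 * m + 1) * m := by
          refine Nat.eq_of_mul_eq_mul_left (show 0 < 2 * (2 * m + 2) by omega) ?_
          linear_combination hP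
        have h6 : e < m := by nlinarith
        obtain ⟨d, hd⟩ : ∃ d, m = e + (d + 1) := ⟨m - e - 1, by omega⟩
        subst hd
        nlinarith [Nat.zero_le (e * d), Nat.zero_le (d * d)]
      · rw [show 2 * m + 1 - 1 = 2 * m by omega] at hcard
        rw [← hcard] at hP hele ⊢
        have h5 : e = m + 1 := by
          refine Nat.eq_of_mul_eq_mul_left (show 0 < 2 * ((2 * m + 1) * (2 * m)) by positivity) ?_
          linear_combination hP
        -- the involutions with `1` form a subgroup of the centralizer
        let Z : Subgroup A :=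
          { carrier := {c : A | c * c = 1}
            one_mem' := one_mul 1
            mul_mem' := fun {a b} ha hb => by
              have hc : Commute a b := (hC t ht).is_comm.comm a b
              show a * b * (a * b) = 1
              rw [← pow_two, hc.mul_pow, pow_two, pow_two, show a * a = 1 from ha,
                show b * b = 1 from hb, one_mul]
            inv_mem' := fun {a} ha => by
              show a⁻¹ * a⁻¹ = 1
              rw [← mul_inv_rev, show a * a = 1 from ha, inv_one] }
        have hZc : Nat.card Z = e + 1 := by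
          let f : Option {v : G // orderOf v = 2 ∧ v ∈ A} → Z := fun o => o.elim 1 fun v =>
            ⟨⟨v, v.2.2⟩, Subtype.ext (invol_mul_self v.2.1)⟩
          have hb : Function.Bijective f := by
            refine ⟨?_, fun z => ?_⟩
            · rintro (_ | v) (_ | w) h
              · rfl
              · exact absurd (congrArg (fun z : Z => ((z : A) : G)) h).symm
                  (CfsgLib.Invol.ne_one_of_orderOf_two w.2.1)
              · exact absurd (congrArg (fun z : Z => ((z : A) : G)) h)
                  (CfsgLib.Invol.ne_one_of_orderOf_two v.2.1)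
              · exact congrArg some (Subtype.ext (congrArg (fun z : Z => ((z : A) : G)) h))
            · by_cases hz : ((z : A) : G) = 1
              · exact ⟨none, Subtype.ext (Subtype.ext hz.symm)⟩
              · refine ⟨some ⟨_, orderOf_eq_prime ?_ hz, (z : A).2⟩, rfl⟩
                rw [pow_two]
                exact congrArg Subtype.val (show (z : A) * (z : A) = 1 from z.2)
          rw [← Nat.card_congr (Equiv.ofBijective f hb), Finite.card_option]
        have hdvd : e + 1 ∣ 2 * m := by
          rw [← hZc, hcard]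
          exact Subgroup.card_subgroup_dvd_card Z
        obtain ⟨k, hk⟩ := hdvd
        rw [h5] at hk hele
        have hk2 : k < 2 := by
          by_contra hk2
          nlinarith
        interval_cases k <;> omega
  intro c hc
  have hb : Function.Bijective (fun o : Option {v : G // orderOf v = 2 ∧ v ∈ A} =>
      (o.elim 1 fun v => ⟨v, v.2.2⟩ : A)) := by
    refine Function.Injective.bijective_of_nat_card_le ?_ (by rw [Finite.card_option]; exact hkey)
    rintro (_ | v) (_ | w) h
    · rfl
    · exact absurd (congrArg Subtype.val h).symm (CfsgLib.Invol.ne_one_of_orderOf_two w.2.1)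
    · exact absurd (congrArg Subtype.val h) (CfsgLib.Invol.ne_one_of_orderOf_two v.2.1)
    · exact congrArg some (Subtype.ext (congrArg (fun z : A => (z : G)) h))
  obtain ⟨o, ho⟩ := hb.2 ⟨c, hc⟩
  rcases o with _ | v
  · have : c = 1 := (congrArg Subtype.val ho).symm
    rw [this, one_pow]
  · have : (v : G) = c := congrArg Subtype.val ho
    rw [← this, pow_two, invol_mul_self v.2.1]

/-- A simple group with abelian involution centralisers and the one-fixed-point property is
`PSL(2, F)` for a field of even order equal to the centraliser order. -/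
theorem psl_of_cai (hna : TwoGood G) (hC : CentAbelian G) (hfix : FixesOne G)
    (T : Sylow 2 G) (hT : ¬ IsCyclic (T : Subgroup G)) :
    ∃ (F : Type) (_ : Field F) (_ : Fintype F), Fintype.card F = Nat.card T ∧
      Nonempty (G ≃* Matrix.ProjectiveSpecialLinearGroup (Fin 2) F) := by
  exact Cfsg.Agent.S1230.result T hT (hna.not_normal T)
    fun t ht => ⟨hC t ht, exponent_two hna hC hfix ht⟩

end CfsgLib.PGroup.CAI
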