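import Cfsg.Agent.Lib.Transfer.Abelian
import Cfsg.Agent.Lib.LocalEven.CoprimeGeneration
import Cfsg.Agent.Lib.PGroup.CAI.Recognise
import Cfsg.Agent.Lib.PGroup.CAI.Closed

/-!
# Groups with abelian involution centralisers
-/

set_option autoImplicit false

namespace CfsgLib.PGroup.CAI

open Subgroup

universe u

variable {G : Type u} [Group G] [Finite G]

/-- An odd normal subgroup lies in every involution centraliser. -/
theorem odd_normal_le_cent (hna : TwoGood G) (hC : CentAbelian G) (N : Subgroup G) [hN : N.Normal]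
    (hodd : Odd (Nat.card N)) {u : G} (hu : orderOf u = 2) : N ≤ centralizer ({u} : Set G) := by
  haveI : Fact (Nat.Prime 2) := ⟨Nat.prime_two⟩
  obtain ⟨v, hv, hvu, hvA⟩ := (hna.spread hC).second u hu
  have huu := sq_one_of_invol hu
  have hvv := sq_one_of_invol hv
  have huv : v * u = u * v := mem_centralizer_singleton_iff.1 hvA
  have hnorm : ∀ g : G, g ∈ normalizer (N : Set G) := fun g => by
    rw [normalizer_eq_top]; exact mem_top g
  refine CfsgLib.LocalEven.le_of_line_centralizers (p := 2) (x := u) (y := v) (by rw [pow_two, huu])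
    (by rw [pow_two, hvv]) huv.symm (Nat.coprime_two_right.2 hodd) (hnorm u) (hnorm v) inf_le_right fun i => ?_
  refine inf_le_right.trans (le_of_eq ?_)
  rcases Nat.even_or_odd i with ⟨j, rfl⟩ | ⟨j, rfl⟩
  · rw [← two_mul, pow_mul, pow_two, huu, one_pow, mul_one]
    exact cent_eq_of_comm hC.same hv hu huv.symm
  · rw [pow_succ, pow_mul, pow_two, huu, one_pow, one_mul]
    have hvu2 : orderOf (v * u) = 2 := by
      refine orderOf_eq_prime ?_ fun e => hvu ?_
      · rw [(show Commute v u from huv).mul_pow, pow_two, pow_two, huu, hvv, mul_one]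
      · calc v = v * u * u := by rw [mul_assoc, huu, mul_one]
          _ = u := by rw [e, one_mul]
    exact cent_eq_of_comm hC.same hvu2 hu (show u * (v * u) = v * u * u by rw [← mul_assoc, huv])

theorem center_odd (hna : TwoGood G) (hC : CentAbelian G) : Odd (Nat.card (center G)) := by
  rw [← Nat.not_even_iff_odd, even_iff_two_dvd]
  intro h
  haveI : Fact (Nat.Prime 2) := ⟨Nat.prime_two⟩
  obtain ⟨z, hz⟩ := exists_prime_orderOf_dvd_card' (G := center G) 2 h
  have hz' : orderOf (z : G) = 2 := by rw [orderOf_coe, hz]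
  refine normalizer_ne_top (hna.spread hC) hz' (top_le_iff.1 fun g _ => le_normalizer ?_)
  exact mem_centralizer_singleton_iff.2 (mem_center_iff.1 z.2 g)

theorem CentAbelian.quotient (hC : CentAbelian G) (O : Subgroup G) [O.Normal] (hodd : Odd (Nat.card O))
    (hOC : ∀ t : G, orderOf t = 2 → O ≤ centralizer ({t} : Set G)) : CentAbelian (G ⧸ O) := by
  intro tb htb
  haveI : Fact (Nat.Prime 2) := ⟨Nat.prime_two⟩
  obtain ⟨x, rfl⟩ := QuotientGroup.mk'_surjective O tb
  have hx2 : QuotientGroup.mk' O (x ^ 2) = 1 := by rw [map_pow, ← htb, pow_orderOf_eq_one]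
  set n := Nat.card O
  set t := x ^ n with htdef
  have ht2 : t ^ 2 = 1 := by
    rw [htdef, ← pow_mul, mul_comm, pow_mul]
    exact congrArg Subtype.val
      (pow_card_eq_one' (x := (⟨x ^ 2, (QuotientGroup.eq_one_iff _).1 hx2⟩ : O)))
  have htmap : QuotientGroup.mk' O t = QuotientGroup.mk' O x := by
    rw [htdef, map_pow, pow_eq_pow_mod _ (show (QuotientGroup.mk' O x) ^ 2 = 1 by rw [← map_pow, hx2]),
      Nat.odd_iff.1 hodd, pow_one]
  have hto : orderOf t = 2 := orderOf_eq_prime ht2 fun e => by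
    rw [← htmap, e, map_one, orderOf_one] at htb
    omega
  rw [← htmap]
  have hlift : ∀ a ∈ centralizer ({QuotientGroup.mk' O t} : Set (G ⧸ O)),
      ∃ y ∈ centralizer ({t} : Set G), QuotientGroup.mk' O y = a := by
    intro a ha
    obtain ⟨y, rfl⟩ := QuotientGroup.mk'_surjective O a
    refine ⟨y, mem_centralizer_singleton_iff.2 (mul_inv_eq_iff_eq_mul.1 ?_), rfl⟩
    have ho : t⁻¹ * (y * t * y⁻¹) ∈ O := by
      rw [← QuotientGroup.eq_one_iff]
      show QuotientGroup.mk' O _ = 1
      rw [map_mul, map_inv, map_mul, map_mul, map_inv, mem_centralizer_singleton_iff.1 ha,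
        mul_inv_cancel_right, inv_mul_cancel]
    set o := t⁻¹ * (y * t * y⁻¹) with hodef
    have hto' : t * o = y * t * y⁻¹ := mul_inv_cancel_left t _
    have hcm : o * t = t * o := mem_centralizer_singleton_iff.1 (hOC t hto ho)
    have h2 : o ^ 2 = 1 := by
      have h1 : (t * o) ^ 2 = 1 := by rw [hto', conj_pow, ht2, mul_one, mul_inv_cancel]
      rwa [(show Commute t o from hcm.symm).mul_pow, ht2, one_mul] at h1
    have ho1 : o = 1 := by
      rw [← orderOf_eq_one_iff]
      refine Nat.eq_one_of_dvd_coprimes (Nat.coprime_two_left.2 hodd) (orderOf_dvd_of_pow_eq_one h2) ?_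
      exact orderOf_coe (⟨o, ho⟩ : O) ▸ orderOf_dvd_natCard (⟨o, ho⟩ : O)
    rw [← hto', ho1, mul_one]
  refine ⟨⟨fun a b => Subtype.ext ?_⟩⟩
  obtain ⟨y, hy, ey⟩ := hlift a a.2
  obtain ⟨z, hz, ez⟩ := hlift b b.2
  show (a : G ⧸ O) * b = b * a
  rw [← ey, ← ez, ← map_mul, ← map_mul, comm_of_mem hC hto hy hz]

theorem eq_one_of_two_pow_mem {O : Subgroup G} (hodd : Odd (Nat.card O)) {x : G} (hx : x ∈ O)
    (h : ∃ k : ℕ, x ^ 2 ^ k = 1) : x = 1 := by
  obtain ⟨k, hk⟩ := h
  rw [← orderOf_eq_one_iff]
  exact Nat.eq_one_of_dvd_coprimes ((Nat.coprime_two_left.2 hodd).pow_left k) (orderOf_dvd_of_pow_eq_one hk)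
    (orderOf_coe (⟨x, hx⟩ : O) ▸ orderOf_dvd_natCard (⟨x, hx⟩ : O))

theorem TwoGood.quotient (hna : TwoGood G) (O : Subgroup G) [O.Normal] (hodd : Odd (Nat.card O))
    (hC : CentAbelian G) (hOC : ∀ t : G, orderOf t = 2 → O ≤ centralizer ({t} : Set G)) :
    TwoGood (G ⧸ O) := by
  haveI : Fact (Nat.Prime 2) := ⟨Nat.prime_two⟩
  have hs := QuotientGroup.mk'_surjective O
  have hpow : ∀ (S : Sylow 2 G), ∀ x ∈ (S : Subgroup G), ∃ k : ℕ, x ^ 2 ^ k = 1 := fun S x hx => by
    obtain ⟨k, hk⟩ := S.2 ⟨x, hx⟩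
    exact ⟨k, congrArg Subtype.val hk⟩
  refine ⟨fun T hT => ?_, fun T hT => ?_⟩ <;>
    obtain ⟨S, rfl⟩ := Sylow.mapSurjective_surjective hs 2 T
  · refine hna.not_cyclic S ?_
    haveI := hT
    let f : (S : Subgroup G) →* (S.mapSurjective hs : Subgroup (G ⧸ O)) :=
      ((QuotientGroup.mk' O).comp (S : Subgroup G).subtype).codRestrict _ fun y => by
        rw [Sylow.coe_mapSurjective]; exact mem_map_of_mem _ y.2
    refine isCyclic_of_injective f ((injective_iff_map_eq_one f).2 fun x hx => Subtype.ext ?_)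
    exact eq_one_of_two_pow_mem hodd ((QuotientGroup.eq_one_iff _).1 (congrArg Subtype.val hx))
      (hpow S x x.2)
  · refine hna.not_normal S ⟨fun s hs' g => ?_⟩
    have h1 : QuotientGroup.mk' O (g * s * g⁻¹) ∈ (S.mapSurjective hs : Subgroup (G ⧸ O)) := by
      rw [map_mul, map_mul, map_inv]
      exact hT.conj_mem _ (by rw [Sylow.coe_mapSurjective]; exact mem_map_of_mem _ hs') _
    rw [Sylow.coe_mapSurjective] at h1
    obtain ⟨s', hs'', e⟩ := h1
    have ho : s'⁻¹ * (g * s * g⁻¹) ∈ O := by
      rw [← QuotientGroup.eq_one_iff]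
      show QuotientGroup.mk' O _ = 1
      rw [map_mul, map_inv, e, inv_mul_cancel]
    set o := s'⁻¹ * (g * s * g⁻¹) with hodef
    obtain ⟨z, hzS, hz⟩ : ∃ z ∈ (S : Subgroup G), orderOf z = 2 := by
      haveI : Nontrivial (S : Subgroup G) := by
        by_contra hn
        rw [not_nontrivial_iff_subsingleton] at hn
        exact hna.not_cyclic S isCyclic_of_subsingleton
      obtain ⟨n, hn0, hn⟩ := S.2.nontrivial_iff_card.1 inferInstance
      obtain ⟨z, hz⟩ := exists_prime_orderOf_dvd_card' (G := (S : Subgroup G)) 2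
        (hn ▸ dvd_pow_self 2 hn0.ne')
      exact ⟨z, z.2, by rw [orderOf_coe, hz]⟩
    have hcm : Commute s' o :=
      comm_of_mem hC hz (sylow_le_cent hC S hzS hs'') (hOC z hz ho)
    obtain ⟨i, hi⟩ := hpow S s' hs''
    obtain ⟨j, hj⟩ := hpow S s hs'
    have h2 : o ^ 2 ^ (i + j) = 1 := by
      have h3 : (s' * o) ^ 2 ^ (i + j) = 1 := by
        rw [hodef, mul_inv_cancel_left, conj_pow, pow_add, mul_comm, pow_mul, hj, one_pow, mul_one,
          mul_inv_cancel]
      rw [hcm.mul_pow, pow_add, pow_mul s', hi, one_pow, one_mul] at h3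
      rw [pow_add]
      exact h3
    have ho1 := eq_one_of_two_pow_mem hodd ho ⟨_, h2⟩
    rw [hodef, inv_mul_eq_one] at ho1
    exact ho1 ▸ hs''

theorem center_psl_bot {F : Type} [Field F] [Fintype F] (h4 : 4 ≤ Fintype.card F) :
    center (Matrix.ProjectiveSpecialLinearGroup (Fin 2) F) = ⊥ := by
  obtain ⟨hs, hnc, -⟩ := CfsgLib.Classical.Dickson.noncomm_of_four_le (F := F) rfl h4
  haveI := hs
  refine (inferInstance : (center (Matrix.ProjectiveSpecialLinearGroup (Fin 2) F)).Normal).eq_bot_or_eq_top.resolve_right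
    fun h => hnc ⟨⟨fun a b => (mem_center_iff.1 (h ▸ mem_top b) a)⟩⟩

/-- A group with abelian involution centralisers and Sylow 2-subgroups neither cyclic nor normal. -/
theorem splitLinear : ∀ (n : ℕ) (G : Type u) [Group G] [Finite G], Nat.card G = n →
    TwoGood G → CentAbelian G → SplitLinear G := by
  intro n
  induction n using Nat.strong_induction_on with
  | _ n ih =>
    intro G _ _ hn hna hC
    haveI : Fact (Nat.Prime 2) := ⟨Nat.prime_two⟩
    have IH : SplitBelow.{u} (Nat.card G) := fun X _ _ hX => ih _ (hn ▸ hX) X rfl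
    have hbot : Odd (Nat.card (⊥ : Subgroup G)) := by rw [card_bot]; exact odd_one
    obtain ⟨O, -, hO⟩ := Finite.exists_le_maximal (p := fun K : Subgroup G => K.Normal ∧ Odd (Nat.card K))
      (a := ⊥) ⟨inferInstance, hbot⟩
    obtain ⟨hOn, hOodd⟩ := hO.1
    haveI := hOn
    have hOC : ∀ t : G, orderOf t = 2 → O ≤ centralizer ({t} : Set G) := fun t ht =>
      odd_normal_le_cent hna hC O hOodd ht
    obtain ⟨T⟩ : Nonempty (Sylow 2 G) := inferInstance
    have hTnc := hna.not_cyclic T
    obtain ⟨t, htT, ht⟩ : ∃ t ∈ (T : Subgroup G), orderOf t = 2 := by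
      haveI : Nontrivial (T : Subgroup G) := by
        by_contra hnt
        rw [not_nontrivial_iff_subsingleton] at hnt
        exact hTnc isCyclic_of_subsingleton
      obtain ⟨m, hm0, hm⟩ := T.2.nontrivial_iff_card.1 inferInstance
      obtain ⟨z, hz⟩ := exists_prime_orderOf_dvd_card' (G := (T : Subgroup G)) 2
        (hm ▸ dvd_pow_self 2 hm0.ne')
      exact ⟨z, z.2, by rw [orderOf_coe, hz]⟩
    by_cases hObot : O = ⊥
    · have hZ : center G = ⊥ := by
        have h1 := hO.2 ⟨inferInstance, center_odd hna hC⟩ (hObot ▸ bot_le)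
        exact le_bot_iff.1 (hObot ▸ h1)
      have hfix := fixesOne_of_closed (hna.spread hC) hC.same (centClosed hna hC IH hZ)
      obtain ⟨F, iF, iF', hcard, ⟨e⟩⟩ := psl_of_cai hna hC hfix T hTnc
      obtain ⟨f, hf⟩ := IsPGroup.iff_card.1 T.2
      have hT4 : 4 ≤ 2 ^ f := by
        rcases (show f = 0 ∨ f = 1 ∨ 2 ≤ f by omega) with h | h | h
        · subst h
          haveI : Subsingleton (T : Subgroup G) := Finite.card_le_one_iff_subsingleton.1 (by rw [hf, pow_zero])
          exact absurd isCyclic_of_subsingleton hTnc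
        · subst h
          exact absurd (isCyclic_of_prime_card (p := 2) (by rw [hf, pow_one])) hTnc
        · exact (Nat.pow_le_pow_right two_pos h : 2 ^ 2 ≤ 2 ^ f)
      refine ⟨F, iF, iF', e.toMonoidHom, ?_, by omega, e.surjective, ?_, center_odd hna hC⟩
      · obtain ⟨p, hp⟩ := CharP.exists F
        obtain ⟨m, hpp, hm⟩ := FiniteField.card F p
        have h2 : p ∣ 2 := hpp.dvd_of_dvd_pow (n := f) (by
          rw [← hf, ← hcard, hm]; exact dvd_pow_self p m.pos.ne')
        rwa [(Nat.prime_dvd_prime_iff_eq hpp Nat.prime_two).1 h2] at hp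
      · rw [hZ, MonoidHom.ker_eq_bot_iff]
        exact e.injective
    · have hlt : Nat.card (G ⧸ O) < n := by
        rw [← hn, ← index_eq_card, ← O.index_mul_card]
        refine lt_mul_of_one_lt_right (Nat.pos_of_ne_zero index_ne_zero_of_finite) ?_
        rw [Finite.one_lt_card_iff_nontrivial, nontrivial_iff_ne_bot]
        exact hObot
      obtain ⟨F, iF, iF', π, hchar, h4, hsurj, hker, hodd⟩ :=
        ih _ hlt (G ⧸ O) rfl (hna.quotient O hOodd hC hOC) (hC.quotient O hOodd hOC)
      -- the quotient has trivial centre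
      have hcq : center (G ⧸ O) = ⊥ := by
        set K := (center (G ⧸ O)).comap (QuotientGroup.mk' O)
        have hle : O ≤ K := QuotientGroup.le_comap_mk' O _
        have hKodd : Odd (Nat.card K) := by
          have h1 := (O.subgroupOf K).index_mul_card
          rw [Nat.card_congr (subgroupOfEquivOfLe hle).toEquiv] at h1
          rw [← h1]
          refine (Odd.mul ?_ hOodd)
          refine hodd.of_dvd_nat ?_
          let f : K →* center (G ⧸ O) := ((QuotientGroup.mk' O).comp K.subtype).codRestrict _ fun y => y.2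
          have hf : f.ker = O.subgroupOf K := by
            ext y
            rw [MonoidHom.mem_ker, mem_subgroupOf, ← QuotientGroup.eq_one_iff]
            exact ⟨fun h => congrArg Subtype.val h, fun h => Subtype.ext h⟩
          rw [← hf, index_ker]
          exact card_subgroup_dvd_card _
        have hKO : K ≤ O := hO.2 ⟨inferInstance, hKodd⟩ hle
        refine le_bot_iff.1 fun z hz => ?_
        obtain ⟨y, rfl⟩ := QuotientGroup.mk'_surjective O z
        exact mem_bot.2 ((QuotientGroup.eq_one_iff y).2 (hKO (mem_comap.2 hz)))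
      rw [hcq, MonoidHom.ker_eq_bot_iff] at hker
      set ρ := π.comp (QuotientGroup.mk' O) with hρ
      have hρs : Function.Surjective ρ := hsurj.comp (QuotientGroup.mk'_surjective O)
      have hρk : ρ.ker = O := by
        rw [hρ, ← MonoidHom.comap_ker, (MonoidHom.ker_eq_bot_iff _).2 hker, MonoidHom.comap_bot,
          QuotientGroup.ker_mk']
      obtain ⟨hsimp, -, -⟩ := CfsgLib.Classical.Dickson.noncomm_of_four_le (F := F) rfl h4
      haveI := hsimp
      -- `O` is central
      have hOc : O ≤ center G := by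
        have hOab : ∀ a ∈ O, ∀ b ∈ O, a * b = b * a := fun a ha b hb =>
          comm_of_mem hC ht (hOC t ht ha) (hOC t ht hb)
        have htC : t ∈ centralizer (O : Set G) := mem_centralizer_iff.2 fun o ho =>
          mem_centralizer_singleton_iff.1 (hOC t ht ho)
        have hOCO : O ≤ centralizer (O : Set G) := fun a ha =>
          mem_centralizer_iff.2 fun o ho => hOab o ho a ha
        have htop : centralizer (O : Set G) = ⊤ := by
          rcases ((inferInstance : (centralizer (O : Set G)).Normal).map ρ hρs).eq_bot_or_eq_top with h | h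
          · exfalso
            have h1 : ρ t ∈ (⊥ : Subgroup _) := h ▸ mem_map_of_mem ρ htC
            rw [mem_bot, ← MonoidHom.mem_ker, hρk] at h1
            exact CfsgLib.Invol.ne_one_of_orderOf_two ht
              (eq_one_of_two_pow_mem hOodd h1 ⟨1, by rw [pow_one, ← ht, pow_orderOf_eq_one]⟩)
          · rw [← comap_map_eq_self (f := ρ) (H := centralizer (O : Set G)) (hρk.symm ▸ hOCO), h, comap_top]
        intro o ho
        rw [mem_center_iff]
        intro g
        exact (mem_centralizer_iff.1 (htop ▸ mem_top g) o ho).symm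
      have hZle : center G ≤ O := by
        rw [← hρk]
        intro z hz
        rw [MonoidHom.mem_ker, ← mem_bot, ← center_psl_bot h4, mem_center_iff]
        intro y
        obtain ⟨g, rfl⟩ := hρs y
        rw [← map_mul, ← map_mul, mem_center_iff.1 hz g]
      exact ⟨F, iF, iF', ρ, hchar, h4, hρs, hρk.trans (le_antisymm hOc hZle), center_odd hna hC⟩

/-- The central extension splits. -/
theorem exists_prod_equiv (h : SplitLinear G) :
    ∃ (F : Type) (_ : Field F) (_ : Fintype F) (A : Type) (_ : CommGroup A) (_ : Finite A),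
      CharP F 2 ∧ Odd (Nat.card A) ∧ Nonempty (G ≃* Matrix.SpecialLinearGroup (Fin 2) F × A) := by
  obtain ⟨F, iF, iF', π, hchar, h4, hsurj, hker, hodd⟩ := h
  haveI := hchar
  obtain ⟨hsimp, hnc, -⟩ := CfsgLib.Classical.Dickson.noncomm_of_four_le (F := F) rfl h4
  haveI := hsimp
  have hperf : commutator (Matrix.ProjectiveSpecialLinearGroup (Fin 2) F) = ⊤ :=
    (inferInstance : (commutator (Matrix.ProjectiveSpecialLinearGroup (Fin 2) F)).Normal).eq_bot_or_eq_top.resolve_left
      fun hb => hnc ⟨⟨fun a b => commutatorElement_eq_one_iff_mul_comm.1 (by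
        rw [← mem_bot, ← hb]; exact commutator_mem_commutator (mem_top a) (mem_top b))⟩⟩
  have hmapD : (commutator G).map π = ⊤ := by
    rw [commutator_def, map_commutator, map_top_of_surjective π hsurj, ← commutator_def, hperf]
  -- the derived subgroup meets the centre trivially
  have hDZ : ∀ z ∈ commutator G, z ∈ center G → z = 1 := by
    intro z hzD hzZ
    by_contra hz1
    have hp := Nat.minFac_prime (fun e => hz1 (orderOf_eq_one_iff.1 e))
    set r := (orderOf z).minFac with hr
    haveI : Fact r.Prime := ⟨hp⟩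
    set z₀ := z ^ (orderOf z / r) with hz₀
    have hz0o : orderOf z₀ = r := orderOf_pow_orderOf_div (orderOf_pos z).ne' (Nat.minFac_dvd _)
    have hz0Z : z₀ ∈ center G := pow_mem hzZ _
    have hr2 : r ≠ 2 := by
      intro e
      have h1 := orderOf_dvd_natCard (⟨z₀, hz0Z⟩ : center G)
      rw [← orderOf_coe, hz0o, e] at h1
      rw [Nat.odd_iff] at hodd
      omega
    obtain ⟨R, hR⟩ := (IsPGroup.of_card (p := r) (n := 1) (by rw [Nat.card_zpowers, hz0o, pow_one]) :
      IsPGroup r (zpowers z₀)).exists_le_sylow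
    haveI := psl_even_odd_cyclic r hr2 (R.mapSurjective hsurj)
    let f : (R : Subgroup G) →* (R.mapSurjective hsurj : Subgroup _) :=
      (π.comp (R : Subgroup G).subtype).codRestrict _ fun y => by
        rw [Sylow.coe_mapSurjective]; exact mem_map_of_mem _ y.2
    have hRc : IsMulCommutative (R : Subgroup G) := ⟨⟨commutative_of_cyclic_center_quotient f fun y hy => by
      have h1 : (y : G) ∈ center G := hker ▸ MonoidHom.mem_ker.2 (congrArg Subtype.val (MonoidHom.mem_ker.1 hy))
      exact mem_center_iff.2 fun g => Subtype.ext (mem_center_iff.1 h1 g)⟩⟩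
    have h1 := CfsgLib.Transfer.inf_commutator_inf_center (R : Subgroup G) hRc R.card_coprime_index
    have h2 : z₀ ∈ (⊥ : Subgroup G) := h1 ▸ ⟨⟨hR (mem_zpowers z₀), pow_mem hzD _⟩, hz0Z⟩
    rw [mem_bot] at h2
    rw [h2, orderOf_one] at hz0o
    exact hp.ne_one hz0o.symm
  -- the product
  let ψ : ↥(commutator G) × ↥(center G) →* G :=
    { toFun := fun x => (x.1 : G) * (x.2 : G)
      map_one' := one_mul 1
      map_mul' := fun x y => by
        show ((x.1 : G) * y.1) * ((x.2 : G) * y.2) = (x.1 : G) * x.2 * ((y.1 : G) * y.2)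
        calc ((x.1 : G) * y.1) * ((x.2 : G) * y.2) = (x.1 : G) * ((y.1 : G) * x.2) * y.2 := by group
          _ = (x.1 : G) * ((x.2 : G) * y.1) * y.2 := by rw [mem_center_iff.1 x.2.2 y.1]
          _ = _ := by group }
  have hψ : Function.Bijective ψ := by
    constructor
    · rw [injective_iff_map_eq_one]
      rintro ⟨⟨d, hd⟩, ⟨z, hz⟩⟩ e
      have e' : d * z = 1 := e
      have hd' : d = z⁻¹ := eq_inv_of_mul_eq_one_left e'
      have hd1 : d = 1 := hDZ d hd (hd' ▸ inv_mem hz)
      rw [hd1, one_mul] at e'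
      exact Prod.ext (Subtype.ext hd1) (Subtype.ext e')
    · intro g
      obtain ⟨d, hd, hdg⟩ : π g ∈ (commutator G).map π := hmapD ▸ mem_top _
      refine ⟨(⟨d, hd⟩, ⟨d⁻¹ * g, ?_⟩), mul_inv_cancel_left d g⟩
      rw [← hker, MonoidHom.mem_ker, map_mul, map_inv, hdg, inv_mul_cancel]
  have hπD : Function.Bijective (π.comp (commutator G).subtype) := by
    constructor
    · rw [injective_iff_map_eq_one]
      exact fun d hd => Subtype.ext (hDZ d d.2 (hker ▸ MonoidHom.mem_ker.2 hd))
    · intro y
      obtain ⟨d, hd, e⟩ : y ∈ (commutator G).map π := hmapD ▸ mem_top y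
      exact ⟨⟨d, hd⟩, e⟩
  haveI : IsMulCommutative (center G) := inferInstance
  letI iZ : CommGroup (center G) :=
    { (inferInstance : Group (center G)) with
      mul_comm := fun a b => Subtype.ext (mem_center_iff.1 b.2 a) }
  refine ⟨F, iF, iF', Shrink.{0} (center G), inferInstance, Finite.of_equiv _ (equivShrink _), hchar,
    by rwa [Nat.card_congr (equivShrink.{0} (center G)).symm], ⟨(MulEquiv.ofBijective ψ hψ).symm.trans
      (MulEquiv.prodCongr ((MulEquiv.ofBijective _ hπD).trans
        (MulEquiv.ofBijective (QuotientGroup.mk' (center (Matrix.SpecialLinearGroup (Fin 2) F)))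
          mk_bijective_even).symm) Shrink.mulEquiv.symm)⟩⟩

end CfsgLib.PGroup.CAI
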