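import Cfsg.Agent.Lib.PGroup.CAI.Local

/-!
# Abelian involution centralisers: every outside coset contains an involution
-/

set_option autoImplicit false

namespace CfsgLib.PGroup.CAI

open Subgroup

variable {G : Type*} [Group G] [Finite G]

/-- The centraliser of a non-trivial element of an involution centraliser `A` lies in `N(A)`. -/
def CentClosed (G : Type*) [Group G] : Prop :=
  ∀ t : G, orderOf t = 2 → ∀ k ∈ centralizer ({t} : Set G), k ≠ 1 →
    centralizer ({k} : Set G) ≤ normalizer (centralizer ({t} : Set G) : Set G)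

/-- Involutions counted by the cosets containing them. -/
theorem sum_invol_cosets (L : Subgroup G) [Fintype (G ⧸ L)] :
    (∑ q : G ⧸ L, Nat.card {v : G // orderOf v = 2 ∧ (v : G ⧸ L) = q}) =
      Nat.card {v : G // orderOf v = 2} := by
  rw [← Nat.card_sigma]
  exact Nat.card_congr
    { toFun := fun x => ⟨x.2.1, x.2.2.1⟩
      invFun := fun v => ⟨(v.1 : G ⧸ L), v.1, v.2, rfl⟩
      left_inv := by rintro ⟨q, v, hv, rfl⟩; rfl
      right_inv := fun v => rfl }

omit [Finite G] in
theorem card_base_fibre (L : Subgroup G) :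
    Nat.card {v : G // orderOf v = 2 ∧ (v : G ⧸ L) = ((1 : G) : G ⧸ L)} =
      Nat.card {v : G // orderOf v = 2 ∧ v ∈ L} :=
  Nat.card_congr (Equiv.subtypeEquivRight fun v => and_congr_right fun _ => by
    rw [eq_comm, QuotientGroup.eq, inv_one, one_mul])

omit [Finite G] in
theorem conj_invol_mem {u z : G} (hC : CentSame G) (hcl : CentClosed G) {t : G} (ht : orderOf t = 2)
    (hu : orderOf u = 2) (hz : z ∈ centralizer ({t} : Set G)) (hz1 : z ≠ 1)
    (h : u * z * u⁻¹ ∈ normalizer (centralizer ({t} : Set G) : Set G)) :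
    u ∈ normalizer (centralizer ({t} : Set G) : Set G) := by
  set A := centralizer ({t} : Set G) with hA
  set M := normalizer (A : Set G) with hM
  have huu : u * u = 1 := by rw [← pow_two, ← hu, pow_orderOf_eq_one]
  have hu' : u⁻¹ = u := inv_eq_of_mul_eq_one_left huu
  -- the case where the conjugate of some element lies in `A`
  have inA : ∀ c ∈ A, c ≠ 1 → u * c * u⁻¹ ∈ A → u ∈ M := by
    intro c hc hc1 hc'
    have hne : u * c * u⁻¹ ≠ 1 := fun e => hc1 (conj_eq_one_iff.1 e)
    refine mem_normalizer_of_conj_mem hC ht (invol_mem_cent hC ht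
      ((CfsgLib.Invol.orderOf_conj_eq u t).trans ht) (hcl t ht _ hc' hne ?_))
    rw [mem_centralizer_singleton_iff]
    calc u * t * u⁻¹ * (u * c * u⁻¹) = u * (t * c) * u⁻¹ := by group
      _ = u * (c * t) * u⁻¹ := by rw [mem_centralizer_singleton_iff.1 hc]
      _ = _ := by group
  by_cases hz2 : z * z = 1
  · have hzo : orderOf z = 2 := orderOf_eq_prime (by rw [pow_two, hz2]) hz1
    exact inA z hz hz1 (invol_mem_cent hC ht ((CfsgLib.Invol.orderOf_conj_eq u z).trans hzo) h)
  set b := u * z * u⁻¹ with hb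
  have hubu : u * b * u⁻¹ = z := by
    calc u * b * u⁻¹ = (u * u) * z * (u * u)⁻¹ := by rw [hb]; group
      _ = z := by rw [huu]; group
  by_contra huM
  have hc : b * z * b⁻¹ * z⁻¹ = 1 := by
    by_contra hc1
    refine huM (inA _ (mul_mem ((mem_normalizer_iff.1 h z).1 hz) (inv_mem hz)) hc1 ?_)
    have e : u * (b * z * b⁻¹ * z⁻¹) * u⁻¹ = (b * z * b⁻¹ * z⁻¹)⁻¹ := by
      calc u * (b * z * b⁻¹ * z⁻¹) * u⁻¹
          = (u * b * u⁻¹) * (u * z * u⁻¹) * (u * b * u⁻¹)⁻¹ * (u * z * u⁻¹)⁻¹ := by group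
        _ = z * b * z⁻¹ * b⁻¹ := by rw [hubu, ← hb]
        _ = _ := by group
    rw [e]
    exact inv_mem (mul_mem ((mem_normalizer_iff.1 h z).1 hz) (inv_mem hz))
  have hbz : b * z = z * b := mul_inv_eq_iff_eq_mul.1 (mul_inv_eq_one.1 hc)
  set w := z * b with hw
  have hwu : w * u = u * w := by
    refine mul_inv_eq_iff_eq_mul.1 ?_
    calc w * u * w⁻¹ = z * (u * (u⁻¹ * b * u)) * b⁻¹ * z⁻¹ := by rw [hw]; group
      _ = z * (u * z) * b⁻¹ * z⁻¹ := by rw [show u⁻¹ * b * u = u * b * u⁻¹ by rw [hu'], hubu]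
      _ = u * (u⁻¹ * z * u) * z * b⁻¹ * z⁻¹ := by group
      _ = u * (b * z * b⁻¹ * z⁻¹) := by
        rw [show u⁻¹ * z * u = b by rw [hb, hu']]; group
      _ = u := by rw [hc, mul_one]
  by_cases hw1 : w = 1
  · refine huM (inA z hz hz1 ?_)
    rw [← hb, eq_inv_of_mul_eq_one_right hw1]
    exact inv_mem hz
  have hzu : z ∈ normalizer (centralizer ({u} : Set G) : Set G) := by
    refine hcl u hu w (mem_centralizer_singleton_iff.2 hwu) hw1 (mem_centralizer_singleton_iff.2 ?_)
    calc z * w = z * (z * b) := rfl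
      _ = z * (b * z) := by rw [hbz]
      _ = _ := by rw [hw]; group
  have h1 : z * u * z⁻¹ * u⁻¹ ∈ centralizer ({u} : Set G) :=
    mul_mem ((mem_normalizer_iff.1 hzu u).1 (mem_centralizer_singleton_iff.2 rfl))
      (inv_mem (mem_centralizer_singleton_iff.2 rfl))
  have h2 : z * z ∈ centralizer ({u} : Set G) := by
    have e : z * z = (z * u * z⁻¹ * u⁻¹) * w := by
      calc z * z = z * b⁻¹ * (b * z) := by group
        _ = z * (u * z * u⁻¹)⁻¹ * (z * b) := by rw [hbz, ← hb]
        _ = _ := by rw [hw]; group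
    rw [e]
    exact mul_mem h1 (mem_centralizer_singleton_iff.2 hwu)
  exact huM (hcl t ht (z * z) (mul_mem hz hz) hz2
    (mem_centralizer_singleton_iff.2 (mem_centralizer_singleton_iff.1 h2).symm))

omit [Finite G] in
theorem sq_one_of_invol {v : G} (h : orderOf v = 2) : v * v = 1 := by
  rw [← pow_two, ← h, pow_orderOf_eq_one]

theorem fixesOne_of_closed (hna : Spread G) (hC : CentSame G) (hcl : CentClosed G) :
    FixesOne G := by
  classical
  intro t ht k hk hk1 g hg
  set A := centralizer ({t} : Set G) with hA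
  set M := normalizer (A : Set G) with hM
  haveI : Finite (G ⧸ M) := Quotient.finite _
  haveI := Fintype.ofFinite (G ⧸ M)
  set e := Nat.card {v : G // orderOf v = 2 ∧ v ∈ A} with he
  have hAM : A ≤ M := le_normalizer
  have hApos : 0 < Nat.card A := Nat.card_pos
  have hn : Nat.card {v : G // orderOf v = 2} = Fintype.card (G ⧸ M) * e := by
    refine Nat.eq_of_mul_eq_mul_right hApos ?_
    rw [card_invol_mul hna hC ht, mul_assoc, card_normalizer hna hC ht,
      ← Nat.card_eq_fintype_card, ← index_eq_card, index_mul_card]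
  have hbase : Nat.card {v : G // orderOf v = 2 ∧ (v : G ⧸ M) = ((1 : G) : G ⧸ M)} = e := by
    rw [card_base_fibre]
    exact Nat.card_congr (Equiv.subtypeEquivRight fun v => and_congr_right fun hv =>
      ⟨fun h => invol_mem_cent hC ht hv h, fun h => hAM h⟩)
  have hidx : (A.subgroupOf M).index = e := by
    have h1 := (A.subgroupOf M).index_mul_card
    rw [Nat.card_congr (subgroupOfEquivOfLe hAM).toEquiv, ← card_normalizer hna hC ht] at h1
    exact Nat.eq_of_mul_eq_mul_right hApos h1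
  have hle : ∀ q : G ⧸ M, Nat.card {v : G // orderOf v = 2 ∧ (v : G ⧸ M) = q} ≤ e := by
    intro q
    rcases isEmpty_or_nonempty {v : G // orderOf v = 2 ∧ (v : G ⧸ M) = q} with hE | ⟨⟨u, hu, rfl⟩⟩
    · rw [Nat.card_of_isEmpty]; exact Nat.zero_le _
    by_cases huM : (u : G ⧸ M) = ((1 : G) : G ⧸ M)
    · rw [huM, hbase]
    have huM' : u ∉ M := fun h => huM (by rwa [eq_comm, QuotientGroup.eq, inv_one, one_mul])
    let f : {v : G // orderOf v = 2 ∧ (v : G ⧸ M) = (u : G ⧸ M)} → M ⧸ A.subgroupOf M := fun v =>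
      ((⟨u⁻¹ * v.1, QuotientGroup.eq.1 v.2.2.symm⟩ : M) : M ⧸ A.subgroupOf M)
    have hf : Function.Injective f := by
      intro v v' hvv
      have h1 := mem_subgroupOf.1 (QuotientGroup.eq.1 hvv)
      simp only [Subgroup.coe_mul, Subgroup.coe_inv, mul_inv_rev, inv_inv] at h1
      set a := (v.1)⁻¹ * u * (u⁻¹ * v'.1) with ha
      have ha' : a = v.1 * v'.1 := by
        rw [ha, inv_eq_of_mul_eq_one_left (sq_one_of_invol v.2.1)]
        group
      by_contra hne
      have ha1 : a ≠ 1 := fun e1 => hne (Subtype.ext (by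
        rw [ha'] at e1
        calc v.1 = v.1 * (v'.1 * v'.1) := by
              rw [sq_one_of_invol v'.2.1, mul_one]
          _ = (v.1 * v'.1) * v'.1 := by group
          _ = v'.1 := by rw [e1, one_mul]))
      refine huM' (conj_invol_mem hC hcl ht hu h1 ha1 ?_)
      have hd : u⁻¹ * v.1 ∈ M := QuotientGroup.eq.1 v.2.2.symm
      have hd' : u⁻¹ * v'.1 ∈ M := QuotientGroup.eq.1 v'.2.2.symm
      have hiv : ∀ w : {v : G // orderOf v = 2 ∧ (v : G ⧸ M) = (u : G ⧸ M)}, w.1⁻¹ = w.1 := fun w =>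
        inv_eq_of_mul_eq_one_left (sq_one_of_invol w.2.1)
      have hu' : u⁻¹ = u := inv_eq_of_mul_eq_one_left (by rw [← pow_two, ← hu, pow_orderOf_eq_one])
      rw [show u * a * u⁻¹ = (u⁻¹ * v.1) * (u⁻¹ * v'.1)⁻¹ by
        rw [mul_inv_rev, inv_inv, hiv v', hu', ha']; group]
      exact mul_mem hd (inv_mem hd')
    calc Nat.card _ ≤ Nat.card (M ⧸ A.subgroupOf M) := Nat.card_le_card_of_injective f hf
      _ = e := by rw [← index_eq_card, hidx]
  have hne : ∀ q : G ⧸ M, Nonempty {v : G // orderOf v = 2 ∧ (v : G ⧸ M) = q} := by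
    intro q
    by_contra hE
    rw [not_nonempty_iff] at hE
    have hlt : (∑ p : G ⧸ M, Nat.card {v : G // orderOf v = 2 ∧ (v : G ⧸ M) = p}) <
        ∑ _p : G ⧸ M, e := by
      refine Finset.sum_lt_sum (fun p _ => hle p) ⟨q, Finset.mem_univ _, ?_⟩
      rw [Nat.card_of_isEmpty]
      have := three_le_invol hna hC ht
      rw [← hA, ← he] at this
      omega
    rw [sum_invol_cosets, hn, Finset.sum_const, Finset.card_univ, smul_eq_mul] at hlt
    exact lt_irrefl _ hlt
  by_contra hgM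
  obtain ⟨⟨u, hu, huq⟩⟩ := hne (g : G ⧸ M)
  have hm : g⁻¹ * u ∈ M := QuotientGroup.eq.1 huq.symm
  have hu' : u⁻¹ = u := inv_eq_of_mul_eq_one_left (by rw [← pow_two, ← hu, pow_orderOf_eq_one])
  have huM : u ∈ M := conj_invol_mem hC hcl ht hu hk hk1 (by
    rw [show u * k * u⁻¹ = (g⁻¹ * u)⁻¹ * (g⁻¹ * k * g) * (g⁻¹ * u) by
      calc u * k * u⁻¹ = u⁻¹ * k * u := by rw [hu']
        _ = _ := by group]
    exact mul_mem (mul_mem (inv_mem hm) hg) hm)
  refine hgM ?_
  have := mul_mem huM (inv_mem hm)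
  rwa [mul_inv_rev, inv_inv, mul_inv_cancel_left] at this

end CfsgLib.PGroup.CAI
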