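import Cfsg.Agent.Lib.Solvable.UniqueSubgroup
import Cfsg.Agent.Lib.Invol.Dihedral
import Cfsg.Agent.Lib.Invol.Counting

/-!
# Abelian involution centralisers: local facts
-/

set_option autoImplicit false

namespace CfsgLib.PGroup.CAI

open Subgroup

variable {G : Type*} [Group G]

/-- All involution centralisers are abelian. -/
def CentAbelian (G : Type*) [Group G] : Prop :=
  ∀ t : G, orderOf t = 2 → IsMulCommutative ↥(Subgroup.centralizer ({t} : Set G))

/-- A non-trivial element of an involution centraliser `A` fixes only one coset of `N(A)`. -/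
def FixesOne (G : Type*) [Group G] : Prop :=
  ∀ t : G, orderOf t = 2 → ∀ k ∈ Subgroup.centralizer ({t} : Set G), k ≠ 1 → ∀ g : G,
    g⁻¹ * k * g ∈ Subgroup.normalizer (Subgroup.centralizer ({t} : Set G) : Set G) →
      g ∈ Subgroup.normalizer (Subgroup.centralizer ({t} : Set G) : Set G)

theorem comm_of_mem (hC : CentAbelian G) {t a b : G} (ht : orderOf t = 2)
    (ha : a ∈ centralizer ({t} : Set G)) (hb : b ∈ centralizer ({t} : Set G)) : a * b = b * a :=
  congrArg Subtype.val ((hC t ht).is_comm.comm ⟨a, ha⟩ ⟨b, hb⟩)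

/-- Commuting involutions have equal centralisers. -/
def CentSame (G : Type*) [Group G] : Prop :=
  ∀ x y : G, orderOf x = 2 → orderOf y = 2 → y * x = x * y →
    centralizer ({x} : Set G) = centralizer ({y} : Set G)

theorem cent_le_of_comm (hC : CentAbelian G) {x y : G} (hx : orderOf x = 2) (h : y * x = x * y) :
    centralizer ({x} : Set G) ≤ centralizer ({y} : Set G) := fun _ hw =>
  mem_centralizer_singleton_iff.2 (comm_of_mem hC hx hw (mem_centralizer_singleton_iff.2 h))

theorem CentAbelian.same (hC : CentAbelian G) : CentSame G := fun _ _ hx hy h =>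
  le_antisymm (cent_le_of_comm hC hx h) (cent_le_of_comm hC hy h.symm)

theorem cent_eq_of_comm (hC : CentSame G) {x y : G} (hx : orderOf x = 2) (hy : orderOf y = 2)
    (h : y * x = x * y) : centralizer ({x} : Set G) = centralizer ({y} : Set G) :=
  hC x y hx hy h

theorem mem_cent_conj_iff {g x w : G} :
    w ∈ centralizer ({g * x * g⁻¹} : Set G) ↔ g⁻¹ * w * g ∈ centralizer ({x} : Set G) := by
  rw [mem_centralizer_singleton_iff, mem_centralizer_singleton_iff]
  constructor <;> intro h
  · calc g⁻¹ * w * g * x = g⁻¹ * (w * (g * x * g⁻¹)) * g := by group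
      _ = g⁻¹ * (g * x * g⁻¹ * w) * g := by rw [h]
      _ = _ := by group
  · calc w * (g * x * g⁻¹) = g * (g⁻¹ * w * g * x) * g⁻¹ := by group
      _ = g * (x * (g⁻¹ * w * g)) * g⁻¹ := by rw [h]
      _ = _ := by group

theorem mem_normalizer_iff_conj {g : G} {t : G} :
    g ∈ normalizer (centralizer ({t} : Set G) : Set G) ↔
      centralizer ({g * t * g⁻¹} : Set G) = centralizer ({t} : Set G) := by
  rw [SetLike.ext_iff, Subgroup.mem_normalizer_iff]
  constructor <;> intro h w
  · rw [mem_cent_conj_iff, h, show g * (g⁻¹ * w * g) * g⁻¹ = w by group]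
  · rw [← h (g * w * g⁻¹), mem_cent_conj_iff, show g⁻¹ * (g * w * g⁻¹) * g = w by group]

theorem mem_normalizer_of_conj_mem (hC : CentSame G) {g t : G} (ht : orderOf t = 2)
    (h : g * t * g⁻¹ ∈ centralizer ({t} : Set G)) :
    g ∈ normalizer (centralizer ({t} : Set G) : Set G) :=
  mem_normalizer_iff_conj.2 (cent_eq_of_comm hC ((CfsgLib.Invol.orderOf_conj_eq g t).trans ht) ht
    (mem_centralizer_singleton_iff.1 h).symm)

theorem invol_mem_cent (hC : CentSame G) {t u : G} (ht : orderOf t = 2) (hu : orderOf u = 2)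
    (huM : u ∈ normalizer (centralizer ({t} : Set G) : Set G)) : u ∈ centralizer ({t} : Set G) := by
  have htA : t ∈ centralizer ({t} : Set G) := mem_centralizer_singleton_iff.2 rfl
  have ht'A : u * t * u⁻¹ ∈ centralizer ({t} : Set G) := (mem_normalizer_iff.1 huM t).1 htA
  set t' := u * t * u⁻¹ with ht'def
  have hcomm : t * t' = t' * t := (mem_centralizer_singleton_iff.1 ht'A).symm
  by_cases he : t * t' = 1
  · have e : t' = t := by
      rw [eq_inv_of_mul_eq_one_right he, inv_eq_iff_mul_eq_one, ← pow_two, ← ht, pow_orderOf_eq_one]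
    exact mem_centralizer_singleton_iff.2 (mul_inv_eq_iff_eq_mul.1 e)
  · have ht2 : t * t = 1 := by rw [← pow_two, ← ht, pow_orderOf_eq_one]
    have hu2 : u * u = 1 := by rw [← pow_two, ← hu, pow_orderOf_eq_one]
    have ha : orderOf (t * t') = 2 := by
      refine orderOf_eq_prime ?_ he
      rw [(show Commute t t' from hcomm).mul_pow, pow_two, pow_two, ht2, ht'def,
        show u * t * u⁻¹ * (u * t * u⁻¹) = u * (t * t) * u⁻¹ by group, ht2]
      group
    have hua : u * (t * t') = (t * t') * u := by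
      rw [← mul_inv_eq_iff_eq_mul]
      calc u * (t * t') * u⁻¹ = t' * ((u * u) * t * (u * u)⁻¹) := by rw [ht'def]; group
        _ = t' * t := by rw [hu2]; group
        _ = t * t' := hcomm.symm
    have haA : t * t' ∈ centralizer ({t} : Set G) := mul_mem htA ht'A
    rw [cent_eq_of_comm hC ht ha (mem_centralizer_singleton_iff.1 haA)]
    exact mem_centralizer_singleton_iff.2 hua

/-- The Sylow 2-subgroups are neither cyclic nor normal. -/
structure TwoGood (G : Type*) [Group G] : Prop where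
  not_cyclic : ∀ S : Sylow 2 G, ¬ IsCyclic (S : Subgroup G)
  not_normal : ∀ S : Sylow 2 G, ¬ (S : Subgroup G).Normal

/-- The elements of prime power order of an abelian normal subgroup form a normal subgroup. -/
theorem exists_primary_normal (p : ℕ) [Fact p.Prime] (N : Subgroup G) [hN : N.Normal]
    (hc : ∀ a ∈ N, ∀ b ∈ N, a * b = b * a) : ∃ O : Subgroup G, O.Normal ∧ IsPGroup p O ∧ O ≤ N ∧
      ∀ x ∈ N, (∃ k : ℕ, x ^ p ^ k = 1) → x ∈ O := by
  refine ⟨{ carrier := {x | x ∈ N ∧ ∃ k : ℕ, x ^ p ^ k = 1}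
            one_mem' := ⟨N.one_mem, 0, one_pow _⟩
            mul_mem' := ?_
            inv_mem' := ?_ }, ⟨?_⟩, ?_, fun x hx => hx.1, fun x hx hk => ⟨hx, hk⟩⟩
  · rintro a b ⟨ha, i, hi⟩ ⟨hb, j, hj⟩
    refine ⟨N.mul_mem ha hb, i + j, ?_⟩
    rw [(show Commute a b from hc a ha b hb).mul_pow, pow_add, pow_mul, hi, one_pow,
      one_mul, mul_comm (p ^ i), pow_mul, hj, one_pow]
  · rintro a ⟨ha, i, hi⟩
    exact ⟨N.inv_mem ha, i, by rw [inv_pow, hi, inv_one]⟩
  · rintro a ⟨ha, i, hi⟩ g
    exact ⟨hN.conj_mem a ha g, i, by rw [conj_pow, hi, mul_one, mul_inv_cancel]⟩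
  · rintro ⟨x, hx, i, hi⟩
    exact ⟨i, Subtype.ext hi⟩

variable [Finite G]

theorem exists_sylow_mem {t : G} (ht : orderOf t = 2) : ∃ S : Sylow 2 G, t ∈ (S : Subgroup G) := by
  haveI : Fact (Nat.Prime 2) := ⟨Nat.prime_two⟩
  obtain ⟨S, hS⟩ := (IsPGroup.of_card (n := 1) (by rw [Nat.card_zpowers, ht, pow_one]) :
    IsPGroup 2 (zpowers t)).exists_le_sylow
  exact ⟨S, hS (mem_zpowers t)⟩

theorem sylow_comm (hC : CentAbelian G) (S : Sylow 2 G) {a b : G} (ha : a ∈ (S : Subgroup G))
    (hb : b ∈ (S : Subgroup G)) : a * b = b * a := by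
  haveI : Fact (Nat.Prime 2) := ⟨Nat.prime_two⟩
  rcases eq_or_ne a 1 with rfl | ha1
  · rw [one_mul, mul_one]
  haveI : Nontrivial (S : Subgroup G) := ⟨⟨⟨a, ha⟩, 1, fun e => ha1 (congrArg Subtype.val e)⟩⟩
  haveI := S.2.center_nontrivial
  obtain ⟨z, hz⟩ := exists_prime_orderOf_dvd_card' (G := center (S : Subgroup G)) 2 (by
    obtain ⟨n, hn0, hn⟩ := (S.2.to_subgroup (center (S : Subgroup G))).nontrivial_iff_card.1 inferInstance
    rw [hn]
    exact dvd_pow_self 2 hn0.ne')
  have hz2 : orderOf ((z : (S : Subgroup G)) : G) = 2 := by rw [orderOf_coe, orderOf_coe, hz]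
  exact comm_of_mem hC hz2
    (mem_centralizer_singleton_iff.2 (congrArg Subtype.val (mem_center_iff.1 z.2 ⟨a, ha⟩)))
    (mem_centralizer_singleton_iff.2 (congrArg Subtype.val (mem_center_iff.1 z.2 ⟨b, hb⟩)))

theorem sylow_le_cent (hC : CentAbelian G) (S : Sylow 2 G) {t : G} (h : t ∈ (S : Subgroup G)) :
    (S : Subgroup G) ≤ centralizer ({t} : Set G) := fun _ hx =>
  mem_centralizer_singleton_iff.2 (sylow_comm hC S hx h)

theorem sylow_normal_of_le_normal (hC : CentAbelian G) (S : Sylow 2 G) {t : G} (ht : orderOf t = 2)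
    (hS : (S : Subgroup G) ≤ centralizer ({t} : Set G)) [(centralizer ({t} : Set G)).Normal] :
    (S : Subgroup G).Normal := by
  haveI : Fact (Nat.Prime 2) := ⟨Nat.prime_two⟩
  obtain ⟨O, hOn, hOp, -, hO⟩ := exists_primary_normal 2 (centralizer ({t} : Set G))
    fun a ha b hb => comm_of_mem hC ht ha hb
  have hle : (S : Subgroup G) ≤ O := fun x hx => hO x (hS hx) (by
    obtain ⟨k, hk⟩ := S.2 ⟨x, hx⟩
    exact ⟨k, congrArg Subtype.val hk⟩)
  exact S.3 hOp hle ▸ hOn

/-- Every involution commutes with another one, and its centraliser is not normal. -/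
structure Spread (G : Type*) [Group G] : Prop where
  second : ∀ t : G, orderOf t = 2 → ∃ v, orderOf v = 2 ∧ v ≠ t ∧ v ∈ centralizer ({t} : Set G)
  moved : ∀ t : G, orderOf t = 2 → normalizer (centralizer ({t} : Set G) : Set G) ≠ ⊤

omit [Finite G] in
theorem normalizer_ne_top (hna : Spread G) {t : G}
    (ht : orderOf t = 2) : normalizer (centralizer ({t} : Set G) : Set G) ≠ ⊤ :=
  hna.moved t ht

theorem exists_second_of_sylow (hcyc : ∀ S : Sylow 2 G, ¬ IsCyclic (S : Subgroup G)) (hC : CentAbelian G)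
    {t : G} (ht : orderOf t = 2) :
    ∃ v, orderOf v = 2 ∧ v ≠ t ∧ v ∈ centralizer ({t} : Set G) := by
  haveI : Fact (Nat.Prime 2) := ⟨Nat.prime_two⟩
  obtain ⟨S, htS⟩ := exists_sylow_mem ht
  by_contra hall
  push Not at hall
  refine hcyc S (CfsgLib.Solvable.isCyclic_of_unique_of_comm S.2
    (fun x y => Subtype.ext (sylow_comm hC S x.2 y.2)) fun x y hx hy => ?_)
  have key : ∀ z : (S : Subgroup G), orderOf z = 2 → (z : G) = t := fun z hz => by
    by_contra hne
    exact hall z (by rw [orderOf_coe, hz]) hne (sylow_le_cent hC S htS z.2)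
  have : x = y := Subtype.ext ((key x hx).trans (key y hy).symm)
  exact this ▸ mem_zpowers _

theorem TwoGood.spread (hna : TwoGood G) (hC : CentAbelian G) : Spread G where
  second := fun _ ht => exists_second_of_sylow hna.not_cyclic hC ht
  moved := fun t ht h => by
    haveI : (centralizer ({t} : Set G)).Normal := normalizer_eq_top_iff.1 h
    obtain ⟨S, hS⟩ := exists_sylow_mem ht
    exact hna.not_normal S (sylow_normal_of_le_normal hC S ht (sylow_le_cent hC S hS))

theorem isConj_invol (hna : Spread G) (hC : CentSame G) {x y : G}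
    (hx : orderOf x = 2) (hy : orderOf y = 2) : IsConj x y := by
  have key : ∀ {a b : G}, orderOf a = 2 → orderOf b = 2 → ¬ IsConj a b → b * a = a * b := by
    intro a b ha hb h
    obtain ⟨w, hw, hwa, hwb, -⟩ := CfsgLib.Invol.exists_common_involution ha hb h
    have h1 : b ∈ centralizer ({w} : Set G) := mem_centralizer_singleton_iff.2 hwb.symm
    rw [cent_eq_of_comm hC hw ha hwa.symm] at h1
    exact mem_centralizer_singleton_iff.1 h1
  by_contra h
  obtain ⟨g, hg⟩ : ∃ g, g ∉ normalizer (centralizer ({x} : Set G) : Set G) := by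
    by_contra hall
    push Not at hall
    exact normalizer_ne_top hna hx ((eq_top_iff' _).2 hall)
  have hy' : orderOf (g * y * g⁻¹) = 2 := (CfsgLib.Invol.orderOf_conj_eq g y).trans hy
  have h1 := key hx hy h
  have h2 : g * y * g⁻¹ * x = x * (g * y * g⁻¹) :=
    key hx hy' fun hc => h (hc.trans (isConj_iff.2 ⟨g, rfl⟩).symm)
  refine hg (mem_normalizer_iff_conj.2 ?_)
  have e : centralizer ({g * x * g⁻¹} : Set G) = centralizer ({g * y * g⁻¹} : Set G) := by
    ext w
    rw [mem_cent_conj_iff, mem_cent_conj_iff, cent_eq_of_comm hC hx hy h1]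
  rw [e, cent_eq_of_comm hC hx hy' h2]

/-- Orbit-stabiliser for the conjugates of an involution inside a subgroup containing its centraliser. -/
theorem card_conj_mul {t : G} {H : Subgroup G} (hH : centralizer ({t} : Set G) ≤ H) :
    Nat.card {y : G // ∃ h ∈ H, h * t * h⁻¹ = y} * Nat.card (centralizer ({t} : Set G)) =
      Nat.card H := by
  classical
  choose σ hσ hσy using fun y : {y : G // ∃ h ∈ H, h * t * h⁻¹ = y} => y.2
  rw [← Nat.card_prod]
  refine Nat.card_congr
    { toFun := fun p => ⟨σ p.1 * p.2, mul_mem (hσ p.1) (hH p.2.2)⟩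
      invFun := fun h => (⟨(h : G) * t * (h : G)⁻¹, h, h.2, rfl⟩,
        ⟨(σ ⟨(h : G) * t * (h : G)⁻¹, h, h.2, rfl⟩)⁻¹ * h, ?_⟩)
      left_inv := ?_
      right_inv := ?_ }
  · set s := σ ⟨(h : G) * t * (h : G)⁻¹, h, h.2, rfl⟩ with hs
    have e : s * t * s⁻¹ = (h : G) * t * (h : G)⁻¹ := hσy _
    rw [mem_centralizer_singleton_iff]
    calc s⁻¹ * h * t = s⁻¹ * ((h : G) * t * (h : G)⁻¹) * h := by group
      _ = s⁻¹ * (s * t * s⁻¹) * h := by rw [e]
      _ = _ := by group
  · rintro ⟨y, a⟩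
    have e : σ y * (a : G) * t * (σ y * a)⁻¹ = y := by
      rw [show σ y * (a : G) * t * (σ y * a)⁻¹ = σ y * ((a : G) * t * (a : G)⁻¹) * (σ y)⁻¹ by group,
        mem_centralizer_singleton_iff.1 a.2, mul_inv_cancel_right, hσy]
    have ey : (⟨σ y * a * t * (σ y * a)⁻¹, σ y * a, mul_mem (hσ y) (hH a.2), rfl⟩ :
        {y : G // ∃ h ∈ H, h * t * h⁻¹ = y}) = y := Subtype.ext e
    refine Prod.ext ey (Subtype.ext ?_)
    show (σ _)⁻¹ * (σ y * a) = a
    rw [ey, inv_mul_cancel_left]
  · intro h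
    exact Subtype.ext (mul_inv_cancel_left _ _)

theorem card_invol_mul (hna : Spread G) (hC : CentSame G) {t : G} (ht : orderOf t = 2) :
    Nat.card {v : G // orderOf v = 2} * Nat.card (centralizer ({t} : Set G)) = Nat.card G := by
  rw [← card_top (G := G), ← card_conj_mul (t := t) (H := ⊤) le_top]
  congr 1
  refine Nat.card_congr (Equiv.subtypeEquivRight fun v => ⟨fun hv => ?_, ?_⟩)
  · obtain ⟨g, hg⟩ := isConj_iff.1 (isConj_invol hna hC ht hv)
    exact ⟨g, mem_top g, hg⟩
  · rintro ⟨g, -, rfl⟩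
    exact (CfsgLib.Invol.orderOf_conj_eq g t).trans ht

theorem card_normalizer (hna : Spread G) (hC : CentSame G) {t : G} (ht : orderOf t = 2) :
    Nat.card {v : G // orderOf v = 2 ∧ v ∈ centralizer ({t} : Set G)} *
      Nat.card (centralizer ({t} : Set G)) =
      Nat.card (normalizer (centralizer ({t} : Set G) : Set G)) := by
  rw [← card_conj_mul (t := t) le_normalizer]
  congr 1
  refine Nat.card_congr (Equiv.subtypeEquivRight fun v => ⟨fun hv => ?_, ?_⟩)
  · obtain ⟨g, hg⟩ := isConj_iff.1 (isConj_invol hna hC ht hv.1)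
    exact ⟨g, mem_normalizer_of_conj_mem hC ht (hg ▸ hv.2), hg⟩
  · rintro ⟨g, hg, rfl⟩
    exact ⟨(CfsgLib.Invol.orderOf_conj_eq g t).trans ht,
      (mem_normalizer_iff.1 hg t).1 (mem_centralizer_singleton_iff.2 rfl)⟩

theorem three_le_invol (hna : Spread G) (hC : CentSame G) {t : G} (ht : orderOf t = 2) :
    3 ≤ Nat.card {v : G // orderOf v = 2 ∧ v ∈ centralizer ({t} : Set G)} := by
  classical
  obtain ⟨v, hv, hvt, hvA⟩ := hna.second t ht
  haveI : Fact (Nat.Prime 2) := ⟨Nat.prime_two⟩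
  have htA : t ∈ centralizer ({t} : Set G) := mem_centralizer_singleton_iff.2 rfl
  have ht1 : t ≠ 1 := CfsgLib.Invol.ne_one_of_orderOf_two ht
  have hv1 : v ≠ 1 := CfsgLib.Invol.ne_one_of_orderOf_two hv
  have hvv : v * v = 1 := by rw [← pow_two, ← hv, pow_orderOf_eq_one]
  have htt : t * t = 1 := by rw [← pow_two, ← ht, pow_orderOf_eq_one]
  have hcm : v * t = t * v := mem_centralizer_singleton_iff.1 hvA
  have htv : orderOf (t * v) = 2 := by
    refine orderOf_eq_prime ?_ fun e => hvt ?_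
    · rw [pow_two, mul_assoc, ← mul_assoc v, hcm, mul_assoc t v v, hvv, mul_one, htt]
    · calc v = t * t * v := by rw [htt, one_mul]
        _ = t * (t * v) := mul_assoc _ _ _
        _ = t := by rw [e, mul_one]
  let f : Fin 3 → {v : G // orderOf v = 2 ∧ v ∈ centralizer ({t} : Set G)} :=
    ![⟨t, ht, htA⟩, ⟨v, hv, hvA⟩, ⟨t * v, htv, mul_mem htA hvA⟩]
  have hf : Function.Injective f := by
    intro i j e
    have e' := congrArg Subtype.val e
    fin_cases i <;> fin_cases j <;> simp [f] at e' <;>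
      first
        | rfl
        | exact absurd e'.symm hvt
        | exact absurd e' hvt
        | exact absurd (mul_eq_left.1 e'.symm) hv1
        | exact absurd (mul_eq_left.1 e') hv1
        | exact absurd (mul_eq_right.1 e'.symm) ht1
        | exact absurd (mul_eq_right.1 e') ht1
        | exact absurd e' ht1
        | exact absurd e' hv1
  simpa using Nat.card_le_card_of_injective f hf

end CfsgLib.PGroup.CAI
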