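import Cfsg.Agent.S0205
import Cfsg.Agent.S4066
import Cfsg.Agent.Lib.CN.Structure
import Cfsg.Agent.Lib.Invol.ZStarFinal
import Cfsg.Agent.Lib.PGroup.CAI.Fix
import Cfsg.Agent.Lib.PGroup.CAI.Recognise

/-!
# Groups with trivial-intersection element centralisers
-/

set_option autoImplicit false

namespace CfsgLib.PGroup.CAI

open Subgroup
open scoped commutatorElement

universe u

variable {G : Type u} [Group G]

/-- Every element centraliser is a trivial-intersection set. -/
def CentTI (G : Type*) [Group G] : Prop :=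
  ∀ x : G, Cfsg.IsTISubset (Subgroup.centralizer ({x} : Set G) : Set G)

theorem CentTI.mem_normalizer (hTI : CentTI G) {x g k : G} (hk : k ∈ centralizer ({x} : Set G))
    (hk1 : k ≠ 1) (h : g * k * g⁻¹ ∈ centralizer ({x} : Set G)) :
    g ∈ normalizer (centralizer ({x} : Set G) : Set G) :=
  by_contra fun hg => hk1 (hTI x g hg k hk h)

theorem CentTI.cent_le (hTI : CentTI G) {x k : G} (hk : k ∈ centralizer ({x} : Set G)) (hk1 : k ≠ 1) :
    centralizer ({k} : Set G) ≤ normalizer (centralizer ({x} : Set G) : Set G) := fun g hg =>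
  hTI.mem_normalizer hk hk1 (by rwa [mem_centralizer_singleton_iff.1 hg, mul_inv_cancel_right])

theorem CentTI.closed (hTI : CentTI G) : CentClosed G := fun _ _ _ hk hk1 => hTI.cent_le hk hk1

variable [Finite G]

/-- A group all of whose element centralisers are normal is nilpotent. -/
theorem isNilpotent_of_cent_normal (h : ∀ y : G, (centralizer ({y} : Set G)).Normal) :
    Group.IsNilpotent G := by
  refine ((Group.isNilpotent_of_finite_tfae (G := G)).out 0 3 rfl rfl).2 fun p hp P => ?_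
  haveI := hp
  have hall : ∀ Q : Sylow p G, ∀ x : G, (∃ k : ℕ, x ^ p ^ k = 1) → x ∈ (Q : Subgroup G) := by
    intro Q x hx
    set N := normalClosure ({x} : Set G) with hN
    have h1 : ∀ a ∈ N, ∀ g : G, Commute a (g * x * g⁻¹) := by
      intro a ha g
      have hle : N ≤ centralizer ({g * x * g⁻¹} : Set G) := by
        refine normalClosure_le_normal (N := centralizer ({g * x * g⁻¹} : Set G))
          (Set.singleton_subset_iff.2 ?_)
        have h2 := (h (g * x * g⁻¹)).conj_mem _ (mem_centralizer_singleton_iff.2 rfl) g⁻¹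
        rwa [show g⁻¹ * (g * x * g⁻¹) * g⁻¹⁻¹ = x by group] at h2
      exact mem_centralizer_singleton_iff.1 (hle ha)
    have hcomm : ∀ a ∈ N, ∀ b ∈ N, a * b = b * a := by
      intro a ha b hb
      have hle : N ≤ centralizer ({a} : Set G) := by
        refine (closure_le _).2 fun y hy => ?_
        obtain ⟨w, hw, hwy⟩ := Group.mem_conjugatesOfSet_iff.1 hy
        rw [Set.mem_singleton_iff] at hw
        subst hw
        obtain ⟨g, rfl⟩ := isConj_iff.1 hwy
        exact mem_centralizer_singleton_iff.2 (h1 a ha g).eq.symm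
      exact (mem_centralizer_singleton_iff.1 (hle hb)).symm
    obtain ⟨O, hOn, hOp, -, hO⟩ := exists_primary_normal p N hcomm
    haveI := hOn
    exact (Q.3 (hOp.to_sup_of_normal_left Q.2) le_sup_right).le
      (mem_sup_left (hO x (subset_normalClosure rfl) hx))
  refine ⟨fun n hn g => hall P _ ?_⟩
  obtain ⟨k, hk⟩ := P.2 ⟨n, hn⟩
  exact ⟨k, by rw [conj_pow, show n ^ p ^ k = 1 from congrArg Subtype.val hk, mul_one, mul_inv_cancel]⟩

theorem CentTI.nilpotent_of_center (hTI : CentTI G) (hZ : center G ≠ ⊥) : Group.IsNilpotent G := by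
  haveI := (nontrivial_iff_ne_bot _).2 hZ
  obtain ⟨⟨z, hz⟩, hz1⟩ := exists_ne (1 : center G)
  refine isNilpotent_of_cent_normal fun y => normalizer_eq_top_iff.1 (top_le_iff.1 fun g _ => ?_)
  have hzy : z ∈ centralizer ({y} : Set G) := mem_centralizer_singleton_iff.2 (mem_center_iff.1 hz y).symm
  refine hTI.mem_normalizer hzy (fun e => hz1 (Subtype.ext e)) ?_
  rwa [mem_center_iff.1 hz g, mul_inv_cancel_right]

theorem CentTI.isCN (hTI : CentTI G) : Cfsg.IsCNGroup G := by
  intro x hx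
  refine isNilpotent_of_cent_normal fun y => ?_
  rcases eq_or_ne y 1 with rfl | hy
  · refine ⟨fun n _ g => mem_centralizer_singleton_iff.2 ?_⟩
    rw [one_mul, mul_one]
  refine ⟨fun n hn g => mem_centralizer_singleton_iff.2 (Subtype.ext ?_)⟩
  have hxy : x ∈ centralizer ({(y : G)} : Set G) :=
    mem_centralizer_singleton_iff.2 (mem_centralizer_singleton_iff.1 y.2).symm
  have hg := hTI.cent_le hxy hx g.2
  have hn' : (n : G) ∈ centralizer ({(y : G)} : Set G) :=
    mem_centralizer_singleton_iff.2 (congrArg Subtype.val (mem_centralizer_singleton_iff.1 hn))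
  exact mem_centralizer_singleton_iff.1 ((mem_normalizer_iff.1 hg n).1 hn')

theorem exists_normal_pGroup_of_solvable_normal (N : Subgroup G) [N.Normal] (hN : N ≠ ⊥)
    (hsol : Group.IsSolvable N) : ∃ (p : ℕ) (Q : Subgroup G), p.Prime ∧ Q.Normal ∧ Q ≠ ⊥ ∧ IsPGroup p Q := by
  haveI : Nontrivial N := (nontrivial_iff_ne_bot N).2 hN
  obtain ⟨n, hn⟩ := hsol.solvable
  classical
  have hex : ∃ k, derivedSeries N k = ⊥ := ⟨n, hn⟩
  set k := Nat.find hex with hk
  have hk0 : k ≠ 0 := fun e => by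
    have := Nat.find_spec hex
    rw [← hk, e, derivedSeries_zero] at this
    exact top_ne_bot this
  obtain ⟨j, hj⟩ := Nat.exists_eq_succ_of_ne_zero hk0
  set D := derivedSeries N j with hD
  have hDne : D ≠ ⊥ := Nat.find_min hex (show j < k by omega)
  have hD1 : ⁅D, D⁆ = ⊥ := by
    rw [← derivedSeries_succ, show j + 1 = k by omega]
    exact Nat.find_spec hex
  have hDc : ∀ a ∈ D.map N.subtype, ∀ b ∈ D.map N.subtype, a * b = b * a := by
    rintro _ ⟨a, ha, rfl⟩ _ ⟨b, hb, rfl⟩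
    have h2 : ⁅a, b⁆ ∈ (⊥ : Subgroup N) := hD1 ▸ commutator_mem_commutator ha hb
    rw [mem_bot, commutatorElement_eq_one_iff_mul_comm] at h2
    exact congrArg Subtype.val h2
  haveI : D.Characteristic := derivedSeries_characteristic N j
  have hne : D.map N.subtype ≠ ⊥ := by
    rwa [Ne, map_eq_bot_iff_of_injective _ N.subtype_injective]
  obtain ⟨p, hp, hpd⟩ := Nat.exists_prime_and_dvd (n := Nat.card (D.map N.subtype))
    fun e => hne (card_eq_one.1 e)
  haveI : Fact p.Prime := ⟨hp⟩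
  obtain ⟨O, hOn, hOp, -, hO⟩ := exists_primary_normal p (D.map N.subtype) hDc
  obtain ⟨z, hz⟩ := exists_prime_orderOf_dvd_card' (G := ↥(D.map N.subtype)) p hpd
  refine ⟨p, O, hp, hOn, fun e => ?_, hOp⟩
  have hzO := hO z z.2 ⟨1, by rw [pow_one, ← hz, ← orderOf_coe, pow_orderOf_eq_one]⟩
  rw [e, mem_bot] at hzO
  have h1 : orderOf (z : G) = p := (orderOf_coe z).trans hz
  rw [hzO, orderOf_one] at h1
  exact hp.ne_one h1.symm

/-- With no normal subgroup of prime power order there is a second involution in each centraliser. -/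
theorem CentTI.spread (hTI : CentTI G)
    (hno : ∀ (p : ℕ) (Q : Subgroup G), p.Prime → Q.Normal → IsPGroup p Q → Q = ⊥) (hZ : center G = ⊥)
    {z : G} (hz : orderOf z = 2) :
    ∃ E : Subgroup G, IsKleinFour E := by
  by_contra hall
  push Not at hall
  have heven : Even (Nat.card G) := even_iff_two_dvd.2 (hz ▸ orderOf_dvd_natCard z)
  obtain ⟨w, hw, N, hN, hNodd, hwN⟩ := CfsgLib.Invol.two_rank_one CfsgLib.Invol.constTwo heven hall
  by_cases hb : N = ⊥
  · have hc : w ∈ center G := mem_center_iff.2 fun g => by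
      have h1 := hwN g
      rw [hb, mem_bot] at h1
      exact (mul_inv_eq_iff_eq_mul.1 (mul_inv_eq_one.1 h1)).symm
    rw [hZ, mem_bot] at hc
    exact CfsgLib.Invol.ne_one_of_orderOf_two hw hc
  · obtain ⟨p, Q, hp, hQn, hQ1, hQp⟩ :=
      exists_normal_pGroup_of_solvable_normal N hb (Cfsg.Agent.S0205.result hNodd)
    exact hQ1 (hno p Q hp hQn hQp)

/-- The structure of a group with TI element centralisers and no normal subgroup of prime power order. -/
theorem CentTI.structure' (hTI : CentTI G)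
    (hno : ∀ (p : ℕ) (Q : Subgroup G), p.Prime → Q.Normal → IsPGroup p Q → Q = ⊥) (hnt : Nontrivial G) :
    CentSame G ∧ Spread G ∧ (∃ t : G, orderOf t = 2) ∧ ∀ S : Sylow 2 G, ¬ (S : Subgroup G).Normal := by
  haveI : Fact (Nat.Prime 2) := ⟨Nat.prime_two⟩
  have hG : ¬ Group.IsSolvable G := fun hs => by
    haveI : Nontrivial G := hnt
    haveI : Group.IsSolvable (⊤ : Subgroup G) := solvable_of_solvable_injective (f := (⊤ : Subgroup G).subtype)
      (subtype_injective _)
    obtain ⟨p, Q, hp, hQn, hQ1, hQp⟩ :=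
      exists_normal_pGroup_of_solvable_normal (⊤ : Subgroup G) top_ne_bot inferInstance
    exact hQ1 (hno p Q hp hQn hQp)
  have hZ : center G = ⊥ := by
    by_contra hne
    haveI := hTI.nilpotent_of_center hne
    exact hG inferInstance
  have heven : 2 ∣ Nat.card G := by
    rw [← even_iff_two_dvd]
    by_contra h
    exact hG (Cfsg.Agent.S0205.result (Nat.not_even_iff_odd.1 h))
  have hnn : ∀ S : Sylow 2 G, ¬ (S : Subgroup G).Normal := fun S hS => by
    have := hno 2 S Nat.prime_two hS S.2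
    have h2 := S.not_dvd_index
    rw [this, index_bot] at h2
    exact h2 heven
  -- a central involution of a Sylow subgroup
  obtain ⟨S⟩ : Nonempty (Sylow 2 G) := inferInstance
  obtain ⟨z, hzS, hzc, hz⟩ : ∃ z ∈ (S : Subgroup G), (∀ s ∈ (S : Subgroup G), s * z = z * s) ∧ orderOf z = 2 := by
    have hne : (S : Subgroup G) ≠ ⊥ := S.ne_bot_of_dvd_card heven
    haveI : Nontrivial (S : Subgroup G) := (nontrivial_iff_ne_bot _).2 hne
    haveI := S.2.center_nontrivial
    obtain ⟨m, hm0, hm⟩ := (S.2.to_subgroup (center (S : Subgroup G))).nontrivial_iff_card.1 inferInstance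
    obtain ⟨z, hz⟩ := exists_prime_orderOf_dvd_card' (G := center (S : Subgroup G)) 2
      (hm ▸ dvd_pow_self 2 hm0.ne')
    exact ⟨(z : (S : Subgroup G)), z.1.2, fun s hs => congrArg Subtype.val (mem_center_iff.1 z.2 ⟨s, hs⟩),
      by rw [orderOf_coe, orderOf_coe, hz]⟩
  set C := centralizer ({z} : Set G) with hC
  set M := normalizer (C : Set G) with hM
  have hSC : (S : Subgroup G) ≤ C := fun s hs => mem_centralizer_singleton_iff.2 (hzc s hs)
  have hzC : z ∈ C := mem_centralizer_singleton_iff.2 rfl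
  have hz1 := CfsgLib.Invol.ne_one_of_orderOf_two hz
  -- `S` is normal in `C`, hence in `M`
  have hSn : ((S.subtype hSC : Sylow 2 C) : Subgroup C).Normal := by
    haveI := hTI.isCN z hz1
    exact ((Group.isNilpotent_of_finite_tfae (G := C)).out 0 3 rfl rfl).1 inferInstance 2 ⟨Nat.prime_two⟩ _
  have hmemS : ∀ c ∈ C, (∃ k : ℕ, c ^ 2 ^ k = 1) → c ∈ (S : Subgroup G) := by
    intro c hc hk
    obtain ⟨R, hR⟩ := (show IsPGroup 2 (zpowers (⟨c, hc⟩ : C)) by
      rintro ⟨_, i, rfl⟩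
      obtain ⟨k, hk⟩ := hk
      exact ⟨k, Subtype.ext (show ((⟨c, hc⟩ : C) ^ i) ^ (2 ^ k) = 1 by
        rw [← zpow_natCast, zpow_comm, zpow_natCast, show (⟨c, hc⟩ : C) ^ 2 ^ k = 1 from Subtype.ext hk,
          one_zpow])⟩).exists_le_sylow
    haveI := Sylow.unique_of_normal _ hSn
    have e : R = S.subtype hSC := Subsingleton.elim _ _
    have h1 := hR (mem_zpowers _)
    rw [e, Sylow.coe_subtype, mem_subgroupOf] at h1
    exact h1
  have hMS : ∀ m ∈ M, ∀ s ∈ (S : Subgroup G), m * s * m⁻¹ ∈ (S : Subgroup G) := by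
    intro m hm s hs
    refine hmemS _ ((mem_normalizer_iff.1 hm s).1 (hSC hs)) ?_
    obtain ⟨k, hk⟩ := S.2 ⟨s, hs⟩
    exact ⟨k, by rw [conj_pow, show s ^ 2 ^ k = 1 from congrArg Subtype.val hk, mul_one, mul_inv_cancel]⟩
  -- involutions of `M` lie in `S`
  have hMinv : ∀ v ∈ M, orderOf v = 2 → v ∈ (S : Subgroup G) := by
    intro v hv hv2
    have hn : v ∈ normalizer ((S : Subgroup G) : Set G) := mem_normalizer_iff.2 fun s =>
      ⟨hMS v hv s, fun hs => by
        have h := hMS v⁻¹ (M.inv_mem hv) _ hs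
        rwa [show v⁻¹ * (v * s * v⁻¹) * v⁻¹⁻¹ = s by group] at h⟩
    have hp : IsPGroup 2 (zpowers v) := IsPGroup.of_card (n := 1) (by rw [Nat.card_zpowers, hv2, pow_one])
    exact (S.3 (hp.to_sup_of_normal_right' S.2 (zpowers_le.2 hn)) le_sup_right).le
      (mem_sup_left (mem_zpowers v))
  obtain ⟨g₀, hg₀⟩ : ∃ g₀, g₀ ∉ M := by
    by_contra hall
    push Not at hall
    refine hnn S ⟨fun s hs g => hMS g (hall g) s hs⟩
  have hSz : ∀ x ∈ (S : Subgroup G), orderOf x = 2 → ∃ m ∈ M, m * z * m⁻¹ = x := by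
    intro x hx hx2
    by_cases hcx : IsConj z x
    · obtain ⟨g, hg⟩ := isConj_iff.1 hcx
      exact ⟨g, hTI.mem_normalizer hzC hz1 (hg ▸ hSC hx), hg⟩
    exfalso
    set z' := g₀ * z * g₀⁻¹ with hz'
    have hz'2 : orderOf z' = 2 := (CfsgLib.Invol.orderOf_conj_eq g₀ z).trans hz
    have hnc : ¬ IsConj x z' := fun h => hcx ((isConj_iff.2 ⟨g₀, rfl⟩).trans h.symm)
    obtain ⟨w, hw, hwx, hwz, -⟩ := CfsgLib.Invol.exists_common_involution hx2 hz'2 hnc
    have hwM : w ∈ M := hTI.cent_le (hSC hx) (CfsgLib.Invol.ne_one_of_orderOf_two hx2)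
      (mem_centralizer_singleton_iff.2 hwx)
    have hz'M : z' ∈ M := hTI.cent_le (hSC (hMinv w hwM hw)) (CfsgLib.Invol.ne_one_of_orderOf_two hw)
      (mem_centralizer_singleton_iff.2 hwz.symm)
    exact hg₀ (hTI.mem_normalizer hzC hz1 (hSC (hMinv z' hz'M hz'2)))
  have hSsame : ∀ x ∈ (S : Subgroup G), orderOf x = 2 → centralizer ({x} : Set G) = C := by
    intro x hx hx2
    obtain ⟨m, hm, rfl⟩ := hSz x hx hx2
    exact mem_normalizer_iff_conj.1 hm
  have hconj : ∀ x : G, orderOf x = 2 → ∃ g : G, g * z * g⁻¹ = x := by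
    intro x hx
    obtain ⟨R, hxR⟩ := exists_sylow_mem hx
    obtain ⟨g, rfl⟩ := MulAction.exists_smul_eq G S R
    have hs : g⁻¹ * x * g ∈ (S : Subgroup G) := by
      rw [Sylow.coe_subgroup_smul, Subgroup.mem_pointwise_smul_iff_inv_smul_mem] at hxR
      simpa [MulAut.conj_apply, mul_assoc] using hxR
    obtain ⟨m, -, hm⟩ := hSz _ hs (by
      rw [show g⁻¹ * x * g = g⁻¹ * x * g⁻¹⁻¹ by rw [inv_inv]]
      exact (CfsgLib.Invol.orderOf_conj_eq g⁻¹ x).trans hx)
    exact ⟨g * m, by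
      calc g * m * z * (g * m)⁻¹ = g * (m * z * m⁻¹) * g⁻¹ := by group
        _ = x := by rw [hm]; group⟩
  have hsame : CentSame G := by
    intro x y hx hy hxy
    obtain ⟨g, rfl⟩ := hconj x hx
    have hy' : g⁻¹ * y * g ∈ C := by
      rw [← mem_cent_conj_iff]
      exact mem_centralizer_singleton_iff.2 hxy
    have hy2 : orderOf (g⁻¹ * y * g) = 2 := by
      rw [show g⁻¹ * y * g = g⁻¹ * y * g⁻¹⁻¹ by rw [inv_inv]]
      exact (CfsgLib.Invol.orderOf_conj_eq g⁻¹ y).trans hy
    have e := hSsame _ (hmemS _ hy' ⟨1, by rw [pow_one, ← hy2, pow_orderOf_eq_one]⟩) hy2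
    ext w
    rw [mem_cent_conj_iff, ← hC, ← e, ← mem_cent_conj_iff,
      show g * (g⁻¹ * y * g) * g⁻¹ = y by group]
  refine ⟨hsame, ⟨fun t ht => ?_, fun t ht => ?_⟩, ⟨z, hz⟩, hnn⟩
  · obtain ⟨E, hE⟩ := hTI.spread hno hZ hz
    haveI := hE
    classical
    haveI := Fintype.ofFinite E
    have hEo : ∀ a : E, a ≠ 1 → orderOf (a : G) = 2 := fun a ha => by
      rw [orderOf_coe]
      exact orderOf_eq_prime (by rw [pow_two]; exact IsKleinFour.mul_self a) ha
    haveI : Nontrivial E := Finite.one_lt_card_iff_nontrivial.1 (by rw [hE.card_four]; norm_num)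
    obtain ⟨a, ha⟩ := exists_ne (1 : E)
    obtain ⟨b, -, hb⟩ := Finset.exists_mem_notMem_of_card_lt_card (s := ({1, a} : Finset E))
      (t := Finset.univ) (by
        rw [Finset.card_univ, ← Nat.card_eq_fintype_card, hE.card_four]
        have := (Finset.card_le_two : ({1, a} : Finset E).card ≤ 2)
        omega)
    simp only [Finset.mem_insert, Finset.mem_singleton, not_or] at hb
    obtain ⟨g₁, hg₁⟩ := hconj t ht
    obtain ⟨g₂, hg₂⟩ := hconj a (hEo a ha)
    have hg : g₁ * g₂⁻¹ * (a : G) * (g₁ * g₂⁻¹)⁻¹ = t := by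
      rw [← hg₂, ← hg₁]; group
    refine ⟨g₁ * g₂⁻¹ * (b : G) * (g₁ * g₂⁻¹)⁻¹, (CfsgLib.Invol.orderOf_conj_eq _ _).trans (hEo b hb.1),
      fun e => hb.2 ?_, ?_⟩
    · rw [← hg] at e
      exact Subtype.ext (mul_left_cancel (mul_right_cancel e))
    · rw [← hg, mem_cent_conj_iff, mem_centralizer_singleton_iff]
      rw [show (g₁ * g₂⁻¹)⁻¹ * (g₁ * g₂⁻¹ * (b : G) * (g₁ * g₂⁻¹)⁻¹) * (g₁ * g₂⁻¹) = b by group]
      exact congrArg Subtype.val (IsKleinFour.isMulCommutative.is_comm.comm b a)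
  · intro htop
    obtain ⟨g, rfl⟩ := hconj t ht
    refine hg₀ (mem_normalizer_iff.2 fun w => ?_)
    have h1 : g * g₀ * g⁻¹ ∈ normalizer (centralizer ({g * z * g⁻¹} : Set G) : Set G) := htop ▸ mem_top _
    have h := mem_normalizer_iff.1 h1 (g * w * g⁻¹)
    rwa [mem_cent_conj_iff, mem_cent_conj_iff, show g⁻¹ * (g * w * g⁻¹) * g = w by group,
      show g⁻¹ * (g * g₀ * g⁻¹ * (g * w * g⁻¹) * (g * g₀ * g⁻¹)⁻¹) * g = g₀ * w * g₀⁻¹ by group] at h

end CfsgLib.PGroup.CAI
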