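import Mathlib.GroupTheory.SpecificGroups.Quaternion
import Cfsg.Agent.Lib.PGroup.CAI.TICent

/-!
# Groups with trivial-intersection element centralisers: the Frobenius case
-/

set_option autoImplicit false

namespace CfsgLib.PGroup.CAI

open Subgroup QuaternionGroup

universe u

variable {G : Type u} [Group G] [Finite G]

/-- Two commuting subgroups of coprime order generate their direct product. -/
theorem nonempty_prod_equiv_sup {C Q : Subgroup G} (hcomm : ∀ a ∈ C, ∀ b ∈ Q, a * b = b * a)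
    (hcop : (Nat.card C).Coprime (Nat.card Q)) : Nonempty (↥(C ⊔ Q) ≃* C × Q) := by
  have hc : ∀ (m : C) (k : Q), Commute (C.subtype m) (Q.subtype k) := fun m k => hcomm m m.2 k k.2
  set f := MonoidHom.noncommCoprod C.subtype Q.subtype hc with hf
  have hinj : Function.Injective f := by
    rw [hf, MonoidHom.noncommCoprod_injective]
    refine ⟨C.subtype_injective, Q.subtype_injective, ?_⟩
    rw [range_subtype, range_subtype, disjoint_iff]
    exact inf_eq_bot_of_coprime hcop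
  have hr : f.range = C ⊔ Q := by
    rw [hf, MonoidHom.noncommCoprod_range, range_subtype, range_subtype]
  exact ⟨((MonoidHom.ofInjective hinj).trans (MulEquiv.subgroupCongr hr)).symm⟩

/-- The quaternion part of a Frobenius complement has order at most eight. -/
theorem CentTI.quaternion_le (hTI : CentTI G) {E : Subgroup G} {n : ℕ}
    (φ : QuaternionGroup (2 ^ n) →* G) (hφ : Function.Injective φ) (hE : φ.range ≤ E)
    (hz : ∀ g ∈ E, g * φ (a (((2 : ℕ) ^ n : ℕ) : ZMod (2 * 2 ^ n))) =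
      φ (a (((2 : ℕ) ^ n : ℕ) : ZMod (2 * 2 ^ n))) * g) : n ≤ 1 := by
  set z := φ (a (((2 : ℕ) ^ n : ℕ) : ZMod (2 * 2 ^ n))) with hzdef
  set y := φ (xa 0) with hy
  have hy2 : y * y = z := by rw [hy, hzdef, ← map_mul, ← pow_two, xa_sq]
  have hz1 : z ≠ 1 := by
    intro h
    have h4 : orderOf y = 4 := by
      haveI : NeZero (2 ^ n) := ⟨by positivity⟩
      rw [hy, orderOf_injective φ hφ, orderOf_xa]
    have := orderOf_dvd_of_pow_eq_one (show y ^ 2 = 1 by rw [pow_two, hy2, h])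
    rw [h4] at this
    norm_num at this
  have hzy : z ∈ centralizer ({y} : Set G) := by
    rw [mem_centralizer_singleton_iff, ← hy2, mul_assoc]
  set b := φ (a 1) with hb
  have hbN : b ∈ normalizer (centralizer ({y} : Set G) : Set G) := hTI.mem_normalizer hzy hz1 (by
    rwa [hz b (hE ⟨_, rfl⟩), mul_inv_cancel_right])
  have h1 := mem_centralizer_singleton_iff.1
    ((mem_normalizer_iff.1 hbN y).1 (mem_centralizer_singleton_iff.2 rfl))
  rw [hb, hy, ← map_inv, ← map_mul, ← map_mul, ← map_mul, ← map_mul] at h1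
  have h2 := hφ h1
  have hinv : (a 1 : QuaternionGroup (2 ^ n))⁻¹ = a (-1) :=
    inv_eq_of_mul_eq_one_right (by rw [a_mul_a, add_neg_cancel, a_zero])
  rw [hinv, a_mul_xa, xa_mul_a, xa_mul_xa, xa_mul_xa] at h2
  have h3 : (((2 : ℕ) ^ n : ℕ) : ZMod (2 * 2 ^ n)) + 0 - (0 - 1 + -1) =
      (((2 : ℕ) ^ n : ℕ) : ZMod (2 * 2 ^ n)) + (0 - 1 + -1) - 0 := a.inj h2
  have h4 : ((4 : ℕ) : ZMod (2 * 2 ^ n)) = 0 := by
    push_cast
    linear_combination h3
  have h5 := Nat.le_of_dvd (by norm_num) ((ZMod.natCast_eq_zero_iff 4 _).1 h4)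
  by_contra hn
  have : 2 ^ 2 ≤ 2 ^ n := Nat.pow_le_pow_right (by norm_num) (by omega)
  omega

/-- The complement alternatives when some Sylow subgroup meets a normal subgroup of prime power order. -/
theorem CentTI.frobenius (hTI : CentTI G) (hnn : ¬ Group.IsNilpotent G) {p : ℕ} [Fact p.Prime]
    {Q : Subgroup G} (hQn : Q.Normal) (hQp : IsPGroup p Q) (hQ : Q ≠ ⊥) :
    ∃ H : Subgroup G, Cfsg.IsFrobeniusComplement H ∧
      (IsCyclic H ∨ ∃ m : ℕ, Odd m ∧ Nonempty (H ≃* Multiplicative (ZMod m) × QuaternionGroup 2)) := by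
  obtain ⟨S⟩ : Nonempty (Sylow p G) := inferInstance
  haveI := hQn
  have hle : ∀ R : Sylow p G, Q ≤ R := fun R =>
    le_sup_left.trans (R.3 (hQp.to_sup_of_normal_left R.2) le_sup_right).le
  have hS1 : (S : Subgroup G) ≠ ⊥ := fun h => hQ (le_bot_iff.1 (h ▸ hle S))
  haveI : Subsingleton (Sylow p G) := ⟨fun R R' => by
    by_contra hne
    have h1 := le_inf (hle R) (hle R')
    rw [Cfsg.Agent.S4066.result hTI R R' hne] at h1
    exact hQ (le_bot_iff.1 h1)⟩
  have hSn : (S : Subgroup G).Normal := Sylow.normal_of_subsingleton S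
  obtain ⟨hF1, -, E, hcomp, hFC, hfpf, hnil⟩ :=
    CfsgLib.CN.frobenius_of_normal_sylow hTI.isCN hnn S hS1 hSn
  refine ⟨E, hFC, ?_⟩
  haveI : (Cfsg.fittingHall G).Normal := (OddLocal.fittingHall_spec (G := G)).1
  have hEK : E ≤ normalizer (Cfsg.fittingHall G : Set G) := by
    rw [normalizer_eq_top_iff.2 inferInstance]; exact le_top
  rcases CfsgLib.CN.complement_shape hnil hF1 hEK hfpf with hc | ⟨C, R, hCR, hcomm, hCcyc, hCodd, n, ⟨e⟩⟩
  · exact Or.inl hc
  set φ : QuaternionGroup (2 ^ n) →* G := R.subtype.comp e.symm.toMonoidHom with hφ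
  have hinj : Function.Injective φ := R.subtype_injective.comp e.symm.injective
  have hrange : φ.range = R := by
    ext x
    exact ⟨fun ⟨q, hq⟩ => hq ▸ (e.symm q).2, fun hx => ⟨e ⟨x, hx⟩, by simp [hφ]⟩⟩
  have hzc : ∀ g ∈ E, g * φ (a (((2 : ℕ) ^ n : ℕ) : ZMod (2 * 2 ^ n))) =
      φ (a (((2 : ℕ) ^ n : ℕ) : ZMod (2 * 2 ^ n))) * g := by
    set z0 : QuaternionGroup (2 ^ n) := a (((2 : ℕ) ^ n : ℕ) : ZMod (2 * 2 ^ n)) with hz0
    have hself : (((2 : ℕ) ^ n : ℕ) : ZMod (2 * 2 ^ n)) + ((2 : ℕ) ^ n : ℕ) = 0 := by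
      rw [← Nat.cast_add, ← two_mul]; exact ZMod.natCast_self _
    have hcz : ∀ q : QuaternionGroup (2 ^ n), q * z0 = z0 * q := by
      rintro (i | i)
      · rw [hz0, a_mul_a, a_mul_a, add_comm]
      · rw [hz0, xa_mul_a, a_mul_xa]
        congr 1
        linear_combination hself
    have hle : E ≤ centralizer ({φ z0} : Set G) := by
      rw [← hCR]
      refine sup_le (fun c hc => mem_centralizer_singleton_iff.2 ?_) (fun r hr => ?_)
      · exact hcomm c hc _ (hrange ▸ ⟨_, rfl⟩)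
      · rw [← hrange] at hr
        obtain ⟨q, rfl⟩ := hr
        rw [mem_centralizer_singleton_iff, ← map_mul, ← map_mul, hcz q]
    exact fun g hg => mem_centralizer_singleton_iff.1 (hle hg)
  have hn := hTI.quaternion_le φ hinj (by rw [hrange, ← hCR]; exact le_sup_right) hzc
  have hcop : (Nat.card C).Coprime (Nat.card R) := by
    rw [Nat.card_congr e.toEquiv]
    haveI : NeZero (2 ^ n) := ⟨by positivity⟩
    rw [Nat.card_eq_fintype_card (α := QuaternionGroup (2 ^ n)), QuaternionGroup.card,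
      show 4 * 2 ^ n = 2 ^ (n + 2) by ring]
    exact (Nat.coprime_two_right.2 hCodd).pow_right _
  obtain ⟨ψ⟩ := nonempty_prod_equiv_sup hcomm hcop
  rw [hCR] at ψ
  have θ : E ≃* Multiplicative (ZMod (Nat.card C)) × QuaternionGroup (2 ^ n) :=
    ψ.trans (MulEquiv.prodCongr (zmodCyclicMulEquiv hCcyc).symm e)
  rcases Nat.le_one_iff_eq_zero_or_eq_one.1 hn with rfl | rfl
  · left
    haveI : IsCyclic R := by
      haveI : IsCyclic (QuaternionGroup (2 ^ 0)) := quaternionGroup_one_isCyclic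
      exact isCyclic_of_surjective e.symm e.symm.surjective
    haveI : IsCyclic (C × R) := Group.isCyclic_prod_iff.2 ⟨hCcyc, inferInstance, hcop⟩
    exact isCyclic_of_surjective ψ.symm ψ.symm.surjective
  · exact Or.inr ⟨Nat.card C, hCodd, ⟨θ⟩⟩

end CfsgLib.PGroup.CAI
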