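import Cfsg.Agent.S0885
import Cfsg.Agent.S0338
import Cfsg.Prelude.Def_Exceptional
import Cfsg.Agent.Lib.Classical.Dickson.PSLMap
import Cfsg.Agent.Lib.PGroup.CAI.TICent
import Mathlib.FieldTheory.Finite.GaloisField

/-!
# Groups with trivial-intersection element centralisers: the simple case
-/

set_option autoImplicit false

namespace CfsgLib.PGroup.CAI

open MulAction

universe u

variable {G : Type u} [Group G] [Finite G]

/-- The order statement for simple Zassenhaus groups with a non-abelian regular normal 2-subgroup. -/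
def SuzukiOrderInput (G : Type u) [Group G] : Prop :=
  ∀ (Ω : Type u) [MulAction G Ω] [Finite Ω], Cfsg.IsZassenhausGroup G Ω → IsSimpleGroup G →
    ∀ (x : Ω) (U : Subgroup G), U ≤ stabilizer G x → (U.subgroupOf (stabilizer G x)).Normal →
      IsPGroup 2 U → (∃ u v : U, u * v ≠ v * u) →
      (∀ y z : Ω, y ≠ x → z ≠ x → ∃! u : U, (u : G) • y = z) → Cfsg.IsSuzuki G

theorem eq_of_two_pow_mul_eq {a b x y : ℕ} (hx : Odd x) (hy : Odd y) (h : 2 ^ a * x = 2 ^ b * y) :
    2 ^ a = 2 ^ b ∧ x = y := by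
  have h1 : 2 ^ a ∣ 2 ^ b :=
    ((Nat.coprime_two_left.2 hy).pow_left a).dvd_of_dvd_mul_right ⟨x, h.symm⟩
  have h2 : 2 ^ b ∣ 2 ^ a :=
    ((Nat.coprime_two_left.2 hx).pow_left b).dvd_of_dvd_mul_right ⟨y, h⟩
  have e := Nat.dvd_antisymm h1 h2
  exact ⟨e, Nat.eq_of_mul_eq_mul_left (by positivity) (e ▸ h)⟩

/-- Without normal subgroups of prime power order, involution centralisers are abelian. -/
theorem CentTI.centAbelian (hTI : CentTI G) (hS : Spread G) (hC : CentSame G)
    (hsuz : SuzukiOrderInput G) : CentAbelian G := by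
  classical
  have hfix := fixesOne_of_closed hS hC hTI.closed
  intro t ht
  haveI : Fact (Nat.Prime 2) := ⟨Nat.prime_two⟩
  obtain ⟨hreg, hΩ, hstab, hZ⟩ := zassenhaus_data hS hC hfix ht
  set A := Subgroup.centralizer ({t} : Set G) with hA
  haveI : Finite (G ⧸ NA t) := Quotient.finite _
  haveI := Fintype.ofFinite (G ⧸ NA t)
  have hA2 : 2 ∣ Nat.card A := by
    have h1 := orderOf_dvd_natCard (⟨t, Subgroup.mem_centralizer_singleton_iff.2 rfl⟩ : A)
    rwa [Subgroup.orderOf_mk, ht] at h1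
  have hAle : A ≤ NA t := Subgroup.le_normalizer
  obtain ⟨p, hp⟩ : ∃ p : G ⧸ NA t, p ≠ base t := by
    haveI : Nontrivial (G ⧸ NA t) := Finite.one_lt_card_iff_nontrivial.1 (by
      have := Nat.card_pos (α := A)
      omega)
    exact exists_ne _
  set e := Nat.card {v : G // orderOf v = 2 ∧ v ∈ A} with he
  have h3 : 3 ≤ e := three_le_invol hS hC ht
  obtain ⟨hDcard, hinv⟩ := card_pair_and_inverted hS hC hfix ht hp
  set D := NA t ⊓ stabilizer G p with hD
  replace hDcard : Nat.card D = e := hDcard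
  have hDodd : Odd e := by
    rw [← Nat.not_even_iff_odd, even_iff_two_dvd, ← hDcard]
    intro h2
    obtain ⟨d, hd⟩ := exists_prime_orderOf_dvd_card' (G := D) 2 h2
    have := odd_of_two_fix hC hfix ht (Subgroup.mem_inf.1 d.2).1 hp (mem_pair_iff.1 d.2).2
    rw [Subgroup.orderOf_coe, hd] at this
    exact absurd this (by decide)
  -- the involutions of `A` together with `1` form a central subgroup
  have hinvA : ∀ z ∈ A, orderOf z = 2 → ∀ x ∈ A, x * z = z * x := fun z hz hz2 x hx => by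
    rw [hA, hC t z ht hz2 (Subgroup.mem_centralizer_singleton_iff.1 hz)] at hx
    exact Subgroup.mem_centralizer_singleton_iff.1 hx
  have hcent : ∀ z ∈ A, z * z = 1 → ∀ x ∈ A, x * z = z * x := fun z hz hz2 x hx => by
    rcases eq_or_ne z 1 with rfl | h1
    · rw [mul_one, one_mul]
    · exact hinvA z hz (orderOf_eq_prime (by rw [pow_two, hz2]) h1) x hx
  let Z0 : Subgroup G :=
    { carrier := {z | z ∈ A ∧ z * z = 1}
      one_mem' := ⟨A.one_mem, mul_one 1⟩
      mul_mem' := fun {a b} ha hb => ⟨A.mul_mem ha.1 hb.1, by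
        calc a * b * (a * b) = a * (b * a) * b := by group
          _ = a * (a * b) * b := by rw [hcent b hb.1 hb.2 a ha.1]
          _ = (a * a) * (b * b) := by group
          _ = 1 := by rw [ha.2, hb.2, one_mul]⟩
      inv_mem' := fun {a} ha => ⟨A.inv_mem ha.1, by rw [← mul_inv_rev, ha.2, inv_one]⟩ }
  have hmemZ : ∀ {z : G}, z ∈ Z0 ↔ z ∈ A ∧ z * z = 1 := Iff.rfl
  have hZA : Z0 ≤ A := fun z hz => hz.1
  have hZcard : Nat.card Z0 = e + 1 := by
    haveI := Fintype.ofFinite Z0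
    have e1 : {z : Z0 // z ≠ 1} ≃ {v : G // orderOf v = 2 ∧ v ∈ A} :=
      { toFun := fun z => ⟨(z.1 : G), orderOf_eq_prime (by rw [pow_two]; exact z.1.2.2)
          (fun h => z.2 (Subtype.ext h)), z.1.2.1⟩
        invFun := fun v => ⟨⟨v.1, v.2.2, by
          exact (pow_two _).symm.trans (((congrArg (fun k => (v.1 : G) ^ k) v.2.1).symm).trans
            (pow_orderOf_eq_one _))⟩,
          fun h => CfsgLib.Invol.ne_one_of_orderOf_two v.2.1 (congrArg Subtype.val h)⟩
        left_inv := fun _ => rfl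
        right_inv := fun _ => rfl }
    rw [he, ← Nat.card_congr e1, Nat.card_eq_fintype_card, Nat.card_eq_fintype_card,
      Fintype.card_subtype_compl, Fintype.card_subtype_eq]
    have := Fintype.card_pos (α := Z0)
    omega
  have hcomm_of : (∀ u ∈ A, ∀ x ∈ A, u * x = x * u) → IsMulCommutative A := fun h =>
    ⟨⟨fun a b => Subtype.ext (h a a.2 b b.2)⟩⟩
  refine hcomm_of ?_
  have hHfix : ∀ u ∈ A, u ≠ 1 → ∀ c : G ⧸ NA t, u • c = c → c = base t :=
    fun u hu hu1 c hc => fix_of_mem_cent hfix ht hu hu1 hc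
  have hΩ' : Fintype.card (G ⧸ NA t) = Nat.card A + 1 := by rw [← Nat.card_eq_fintype_card, hΩ]
  have hDst : Nat.card ↥(stabilizer G (base t) ⊓ stabilizer G p : Subgroup G) = e := by
    rw [hstab, ← hD, hDcard]
  rcases Cfsg.Agent.S0885.result hZ (Ne.symm hp) (Nat.card A) e hΩ' hDst hDodd A (le_of_le_of_eq hAle hstab.symm)
      hΩ'.symm hHfix with hsmall | ⟨hA2g, hA2na, -⟩
  · -- small: `A` is elementary abelian
    have hdvd : e + 1 ∣ Nat.card A := hZcard ▸ Subgroup.card_dvd_of_le hZA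
    obtain ⟨k, hk⟩ := hdvd
    have hk1 : k = 1 := by
      rcases k with _ | _ | k
      · have := Nat.card_pos (α := A); omega
      · rfl
      · exfalso
        have : (e + 1) * 2 ≤ (e + 1) * (k + 1 + 1) := Nat.mul_le_mul_left _ (by omega)
        omega
    have hAZ : Z0 = A := Subgroup.eq_of_le_of_card_ge hZA (by rw [hZcard, hk, hk1, mul_one])
    intro u hu x hx
    exact hcent x hx (hmemZ.1 (hAZ ▸ hx)).2 u hu
  · -- large: the Suzuki order
    have hodd : Odd (Fintype.card (G ⧸ NA t)) := by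
      rw [hΩ', ← Nat.not_even_iff_odd, Nat.even_add_one, not_not, even_iff_two_dvd]
      exact hA2
    haveI hsimp : IsSimpleGroup G := Cfsg.Agent.S0338.result hZ hodd
    have hAn : (A.subgroupOf (stabilizer G (base t))).Normal := by
      rw [hstab]; exact Subgroup.normal_in_normalizer
    obtain ⟨-, m, hm, hord⟩ := hsuz (G ⧸ NA t) hZ hsimp (base t) A (le_of_le_of_eq hAle hstab.symm) hAn hA2g
      hA2na hreg
    set q := 2 ^ (2 * m + 1) with hq
    obtain ⟨a, ha⟩ := IsPGroup.iff_card.1 hA2g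
    have hG : Nat.card G = Nat.card A * ((Nat.card A + 1) * e) := by
      rw [← Subgroup.index_mul_card (NA t), Subgroup.index_eq_card, hΩ, ← card_normalizer hS hC ht,
        ← hA, ← he]
      ring
    have hq2 : 2 ≤ q := by
      calc 2 = 2 ^ 1 := rfl
        _ ≤ 2 ^ (2 * m + 1) := Nat.pow_le_pow_right (by norm_num) (by omega)
    have hqev : Even q := (Nat.even_pow.2 ⟨even_two, by omega⟩)
    have hodd1 : Odd ((Nat.card A + 1) * e) := by
      refine Nat.odd_mul.2 ⟨?_, hDodd⟩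
      rw [← Nat.not_even_iff_odd, Nat.even_add_one, not_not, even_iff_two_dvd]
      exact hA2
    have hodd2 : Odd ((q ^ 2 + 1) * (q - 1)) := by
      refine Nat.odd_mul.2 ⟨?_, Nat.Even.sub_odd (by omega) hqev odd_one⟩
      exact (Nat.even_pow.2 ⟨hqev, two_ne_zero⟩).add_one
    obtain ⟨hh, hrest⟩ := eq_of_two_pow_mul_eq (a := a) (b := 2 * (2 * m + 1)) hodd1 hodd2 (by
      rw [← ha, ← hG, hord, show 2 ^ (2 * (2 * m + 1)) = q ^ 2 by rw [hq, ← pow_mul, mul_comm]]
      ring)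
    have hAq : Nat.card A = q ^ 2 := by rw [ha, hh, hq, ← pow_mul, mul_comm]
    rw [hAq] at hrest
    have hee : e = q - 1 := Nat.eq_of_mul_eq_mul_left (by positivity) hrest
    have hZq : Nat.card Z0 = q := by omega
    -- `D` is commutative and acts without fixed points on `A`
    obtain ⟨w, hw, hwp, -⟩ := exists_swap_pair hS hC hfix ht (Ne.symm hp)
    have hDc : ∀ d ∈ D, ∀ d' ∈ D, d * d' = d' * d := fun d hd d' hd' => by
      have h1 := hinv w hw hwp _ (D.mul_mem hd hd')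
      have h2 : w * (d * d') * w⁻¹ = w * d * w⁻¹ * (w * d' * w⁻¹) := by group
      rw [h2, hinv w hw hwp d hd, hinv w hw hwp d' hd', mul_inv_rev] at h1
      have h4 := congrArg (·⁻¹) h1
      simp only [mul_inv_rev, inv_inv] at h4
      exact h4.symm
    have hconjA : ∀ g ∈ NA t, ∀ x ∈ A, g * x * g⁻¹ ∈ A := fun g hg x hx =>
      (Subgroup.mem_normalizer_iff.1 hg x).1 hx
    have hconjZ : ∀ g ∈ NA t, ∀ z ∈ Z0, g * z * g⁻¹ ∈ Z0 := fun g hg z hz =>
      ⟨hconjA g hg z hz.1, by rw [show g * z * g⁻¹ * (g * z * g⁻¹) = g * (z * z) * g⁻¹ by group,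
        hz.2, mul_one, mul_inv_cancel]⟩
    have hfpf : ∀ d ∈ D, d ≠ 1 → ∀ x ∈ A, d * x = x * d → x = 1 := fun d hd hd1 x hx hdx => by
      by_contra hx1
      have h1 : d • (x • p) = x • p := by
        rw [smul_smul, hdx, mul_smul, (mem_pair_iff.1 hd).2]
      rcases two_fix hS hC hfix ht hp hd hd1 h1 with h2 | h2
      · exact hp (by
          have h3 : x⁻¹ • base t = base t := fix_base.2 (hAle (A.inv_mem hx))
          rw [← h2, inv_smul_smul] at h3
          exact h3.trans h2)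
      · exact hp (hHfix x hx hx1 p h2)
    have hfpfZ : ∀ d ∈ D, d ≠ 1 → ∀ x ∈ A, d * x * d⁻¹ * x⁻¹ ∈ Z0 → x ∈ Z0 := by
      intro d hd hd1 x hx hz
      have hdN := (Subgroup.mem_inf.1 hd).1
      let ψ : Z0 → Z0 := fun z => ⟨d * z * d⁻¹ * (z : G)⁻¹,
        Z0.mul_mem (hconjZ d hdN z z.2) (Z0.inv_mem z.2)⟩
      have hψ : Function.Injective ψ := fun z z' h => by
        have h' : d * z * d⁻¹ * (z : G)⁻¹ = d * z' * d⁻¹ * (z' : G)⁻¹ := congrArg Subtype.val h
        have hc : (z' : G)⁻¹ * z = z * (z' : G)⁻¹ :=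
          (hcent _ z.2.1 z.2.2 _ (A.inv_mem z'.2.1))
        refine Subtype.ext (inv_mul_eq_one.1 (hfpf d hd hd1 _ (A.mul_mem (A.inv_mem z'.2.1) z.2.1) ?_)).symm
        have h5 : d * ((z' : G)⁻¹ * z) * d⁻¹ = (z' : G)⁻¹ * z :=
          calc d * ((z' : G)⁻¹ * z) * d⁻¹ = (d * z' * d⁻¹)⁻¹ * (d * z * d⁻¹ * (z : G)⁻¹) * z := by group
            _ = (d * z' * d⁻¹)⁻¹ * (d * z' * d⁻¹ * (z' : G)⁻¹) * z := by rw [h']
            _ = _ := by group
        exact mul_inv_eq_iff_eq_mul.1 h5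
      obtain ⟨⟨y, hy⟩, hy'⟩ := (Finite.injective_iff_surjective.1 hψ) ⟨_, hz⟩
      have hy'' : d * y * d⁻¹ * y⁻¹ = d * x * d⁻¹ * x⁻¹ := congrArg Subtype.val hy'
      have h5 : d * (y⁻¹ * x) * d⁻¹ = y⁻¹ * x :=
        calc d * (y⁻¹ * x) * d⁻¹ = (d * y * d⁻¹)⁻¹ * (d * x * d⁻¹ * x⁻¹) * x := by group
          _ = (d * y * d⁻¹)⁻¹ * (d * y * d⁻¹ * y⁻¹) * x := by rw [hy'']
          _ = _ := by group
      have h6 := hfpf d hd hd1 _ (A.mul_mem (A.inv_mem hy.1) hx) (mul_inv_eq_iff_eq_mul.1 h5)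
      rw [← inv_mul_eq_one.1 h6]
      exact hy
    intro u hu x hx
    by_cases huZ : u ∈ Z0
    · exact (hcent u hu huZ.2 x hx).symm
    by_cases hxZ : x ∈ Z0
    · exact hcent x hx hxZ.2 u hu
    -- every element outside `Z0` is a translate of a `D`-conjugate of `u`
    let Φ : D × Z0 → {y : A // y ∉ Z0.subgroupOf A} := fun dz =>
      ⟨⟨(dz.1 : G) * u * (dz.1 : G)⁻¹ * dz.2,
        A.mul_mem (hconjA _ (Subgroup.mem_inf.1 dz.1.2).1 u hu) dz.2.2.1⟩, fun h => huZ (by
          have h1 : (dz.1 : G) * u * (dz.1 : G)⁻¹ ∈ Z0 := by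
            have := Z0.mul_mem (Subgroup.mem_subgroupOf.1 h) (Z0.inv_mem dz.2.2)
            simpa using this
          have h2 := hconjZ _ ((NA t).inv_mem (Subgroup.mem_inf.1 dz.1.2).1) _ h1
          rwa [show (dz.1 : G)⁻¹ * ((dz.1 : G) * u * (dz.1 : G)⁻¹) * ((dz.1 : G)⁻¹)⁻¹ = u by group] at h2)⟩
    have hΦ : Function.Injective Φ := by
      rintro ⟨⟨d, hd⟩, ⟨z, hz⟩⟩ ⟨⟨d', hd'⟩, ⟨z', hz'⟩⟩ h
      have h' : d * u * d⁻¹ * z = d' * u * d'⁻¹ * z' :=
        congrArg (fun y : {y : A // y ∉ Z0.subgroupOf A} => ((y : A) : G)) h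
      have hkey : d'⁻¹ * d = 1 := by
        by_contra hne
        refine huZ (hfpfZ _ (D.mul_mem (D.inv_mem hd') hd) hne u hu ?_)
        have h7 : d'⁻¹ * d * u * (d'⁻¹ * d)⁻¹ * u⁻¹ =
            u * (d'⁻¹ * (z' * z⁻¹) * (d'⁻¹)⁻¹) * u⁻¹ := by
          calc d'⁻¹ * d * u * (d'⁻¹ * d)⁻¹ * u⁻¹ = d'⁻¹ * (d * u * d⁻¹ * z) * z⁻¹ * d' * u⁻¹ := by group
            _ = d'⁻¹ * (d' * u * d'⁻¹ * z') * z⁻¹ * d' * u⁻¹ := by rw [h']
            _ = _ := by group
        rw [h7]
        exact hconjZ u (hAle hu) _ (hconjZ _ ((NA t).inv_mem (Subgroup.mem_inf.1 hd').1) _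
          (Z0.mul_mem hz' (Z0.inv_mem hz)))
      obtain rfl : d = d' := (inv_mul_eq_one.1 hkey).symm
      obtain rfl : z = z' := mul_left_cancel h'
      rfl
    have hcardle : Nat.card {y : A // y ∉ Z0.subgroupOf A} ≤ Nat.card (D × Z0) := by
      haveI := Fintype.ofFinite A
      rw [Nat.card_prod, hDcard, hZq, hee, Nat.card_eq_fintype_card, Fintype.card_subtype_compl,
        ← Nat.card_eq_fintype_card (α := A),
        ← Nat.card_eq_fintype_card (α := {y : A // y ∈ Z0.subgroupOf A}),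
        Nat.card_congr (Subgroup.subgroupOfEquivOfLe hZA).toEquiv, hAq, hZq]
      exact le_of_eq (by rw [Nat.sub_mul, one_mul, pow_two])
    obtain ⟨⟨⟨d, hd⟩, ⟨z, hz⟩⟩, hdz⟩ := (Function.Injective.bijective_of_nat_card_le hΦ hcardle).2
      ⟨⟨x, hx⟩, fun h => hxZ (Subgroup.mem_subgroupOf.1 h)⟩
    have hxeq : d * u * d⁻¹ * z = x :=
      congrArg (fun y : {y : A // y ∉ Z0.subgroupOf A} => ((y : A) : G)) hdz
    have hdN := (Subgroup.mem_inf.1 hd).1
    have htu : t ∈ Subgroup.centralizer ({u} : Set G) :=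
      Subgroup.mem_centralizer_singleton_iff.2 (Subgroup.mem_centralizer_singleton_iff.1 hu).symm
    have hdu : d ∈ Subgroup.normalizer (Subgroup.centralizer ({u} : Set G) : Set G) := by
      refine hTI.mem_normalizer htu (CfsgLib.Invol.ne_one_of_orderOf_two ht)
        (Subgroup.mem_centralizer_singleton_iff.2 ?_)
      have h1 : d * t * d⁻¹ ∈ A := hconjA d hdN t (Subgroup.mem_centralizer_singleton_iff.2 rfl)
      exact (hinvA _ h1 ((CfsgLib.Invol.orderOf_conj_eq d t).trans ht) u hu).symm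
    have h1 : d * u * d⁻¹ * u = u * (d * u * d⁻¹) := Subgroup.mem_centralizer_singleton_iff.1
      ((Subgroup.mem_normalizer_iff.1 hdu u).1 (Subgroup.mem_centralizer_singleton_iff.2 rfl))
    rw [← hxeq]
    calc u * (d * u * d⁻¹ * z) = (u * (d * u * d⁻¹)) * z := by group
      _ = (d * u * d⁻¹) * (u * z) := by rw [← h1]; group
      _ = (d * u * d⁻¹) * (z * u) := by rw [hcent z hz.1 hz.2 u hu]
      _ = _ := by group

/-- Without normal subgroups of prime power order the group is `PSL(2, 2^n)`. -/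
theorem CentTI.psl (hTI : CentTI G)
    (hno : ∀ (p : ℕ) (Q : Subgroup G), p.Prime → Q.Normal → IsPGroup p Q → Q = ⊥) (hnt : Nontrivial G)
    (hsuz : SuzukiOrderInput G) : ∃ n : ℕ, 2 ≤ n ∧
      Nonempty (G ≃* Matrix.ProjectiveSpecialLinearGroup (Fin 2) (GaloisField 2 n)) := by
  haveI : Fact (Nat.Prime 2) := ⟨Nat.prime_two⟩
  obtain ⟨hC, hS, ⟨t₀, ht₀⟩, hnn⟩ := hTI.structure' hno hnt
  have hfix := fixesOne_of_closed hS hC hTI.closed
  have hab := hTI.centAbelian hS hC hsuz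
  have heven : 2 ∣ Nat.card G := ht₀ ▸ orderOf_dvd_natCard t₀
  have hncyc : ∀ S : Sylow 2 G, ¬ IsCyclic (S : Subgroup G) := by
    intro S hcyc
    haveI : Nontrivial (S : Subgroup G) :=
      (Subgroup.nontrivial_iff_ne_bot _).2 (S.ne_bot_of_dvd_card heven)
    obtain ⟨k, hk0, hk⟩ := S.2.nontrivial_iff_card.1 inferInstance
    obtain ⟨⟨t, htS⟩, ht'⟩ := exists_prime_orderOf_dvd_card' (G := (S : Subgroup G)) 2
      (hk ▸ dvd_pow_self 2 hk0.ne')
    rw [Subgroup.orderOf_mk] at ht'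
    obtain ⟨v, hv, hvt, hvA⟩ := hS.second t ht'
    have hle := sylow_le_cent hab S htS
    have hvS : v ∈ (S : Subgroup G) := by
      have hn : v ∈ Subgroup.normalizer ((S : Subgroup G) : Set G) := by
        have hc : ∀ s ∈ (S : Subgroup G), v * s * v⁻¹ = s := fun s hs => by
          rw [comm_of_mem hab ht' hvA (hle hs), mul_inv_cancel_right]
        refine Subgroup.mem_normalizer_iff.2 fun s => ⟨fun hs => (hc s hs).symm ▸ hs, fun hs => ?_⟩
        have h1 := hc _ hs
        have : v * s * v⁻¹ = s := mul_left_cancel (mul_right_cancel h1)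
        rwa [this] at hs
      have hp : IsPGroup 2 (Subgroup.zpowers v) :=
        IsPGroup.of_card (n := 1) (by rw [Nat.card_zpowers, hv, pow_one])
      exact (S.3 (hp.to_sup_of_normal_right' S.2 (Subgroup.zpowers_le.2 hn)) le_sup_right).le
        (Subgroup.mem_sup_left (Subgroup.mem_zpowers v))
    classical
    haveI := Fintype.ofFinite (S : Subgroup G)
    haveI := hcyc
    have h2 := IsCyclic.card_pow_eq_one_le (α := (S : Subgroup G)) (n := 2) (by norm_num)
    have h3 : ({1, ⟨t, htS⟩, ⟨v, hvS⟩} : Finset (S : Subgroup G)).card ≤ 2 := by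
      refine le_trans (Finset.card_le_card ?_) h2
      intro s hs
      simp only [Finset.mem_insert, Finset.mem_singleton] at hs
      refine Finset.mem_filter.2 ⟨Finset.mem_univ _, ?_⟩
      rcases hs with rfl | rfl | rfl
      · exact one_pow 2
      · exact Subtype.ext (show t ^ 2 = 1 by rw [← ht']; exact pow_orderOf_eq_one t)
      · exact Subtype.ext (show v ^ 2 = 1 by rw [← hv]; exact pow_orderOf_eq_one v)
    rw [Finset.card_insert_of_notMem, Finset.card_pair] at h3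
    · omega
    · exact fun h => hvt (congrArg Subtype.val h).symm
    · simp only [Finset.mem_insert, Finset.mem_singleton, not_or]
      exact ⟨fun h => CfsgLib.Invol.ne_one_of_orderOf_two ht' (congrArg Subtype.val h).symm,
        fun h => CfsgLib.Invol.ne_one_of_orderOf_two hv (congrArg Subtype.val h).symm⟩
  obtain ⟨T⟩ : Nonempty (Sylow 2 G) := inferInstance
  obtain ⟨F, _, _, hF, ⟨f⟩⟩ := psl_of_cai ⟨hncyc, hnn⟩ hab hfix T (hncyc T)
  obtain ⟨n, hn⟩ := IsPGroup.iff_card.1 T.2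
  have hn2 : 2 ≤ n := by
    by_contra h
    rcases (show n = 0 ∨ n = 1 by omega) with rfl | rfl
    · have := Fintype.one_lt_card (α := F)
      rw [hF, hn] at this
      simp at this
    · exact hncyc T (isCyclic_of_prime_card (p := 2) (by rw [hn, pow_one]))
  refine ⟨n, hn2, ⟨f.trans ?_⟩⟩
  haveI := Fintype.ofFinite (GaloisField 2 n)
  exact CfsgLib.Classical.Dickson.pslCongr (FiniteField.ringEquivOfCardEq (by
    rw [hF, hn, ← Nat.card_eq_fintype_card, GaloisField.card 2 n (by omega)]))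

end CfsgLib.PGroup.CAI
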